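import Groth.Agent.S7791
import Groth.Agent.PicCurve.Alb.Coarse
import Groth.Prelude.Def_SymProd
import Mathlib.AlgebraicGeometry.AlgClosed.Basic
import Mathlib.CategoryTheory.Limits.Shapes.WidePullbacks

/-!
# Sets of rational points
-/

noncomputable section

set_option autoImplicit false
set_option linter.style.haveILetI false
set_option linter.unusedSectionVars false
set_option backward.isDefEq.respectTransparency false
set_option backward.isDefEq.respectTransparency.types false

universe u

open CategoryTheory CategoryTheory.Limits AlgebraicGeometry TopologicalSpace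
  MonoidalCategory CartesianMonoidalCategory
open scoped MonObj

namespace Groth.Agent.PicCurve.Pts

section FibPow

variable {X S : Scheme.{u}} (f : X ⟶ S)

/-- forget the first factor -/
def drop (n : ℕ) : SymProd.fibPow f (n + 1) ⟶ SymProd.fibPow f n :=
  WidePullback.lift (WidePullback.base _) (fun j => WidePullback.π _ j.succ)
    (fun j => WidePullback.π_arrow _ j.succ)

theorem isPullback_succ (n : ℕ) :
    IsPullback (WidePullback.π (fun _ : Fin (n + 1) => f) 0) (drop f n) f
      (WidePullback.base (fun _ : Fin n => f)) := by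
  refine IsPullback.of_isLimit' ⟨by rw [WidePullback.π_arrow, drop, WidePullback.lift_base]⟩ ?_
  refine PullbackCone.IsLimit.mk _
    (fun s => WidePullback.lift (s.snd ≫ WidePullback.base _)
      (fun j => Fin.cases s.fst (fun l => s.snd ≫ WidePullback.π _ l) j)
      (fun j => Fin.cases s.condition (fun l => by
        show (s.snd ≫ WidePullback.π _ l) ≫ _ = _
        rw [Category.assoc, WidePullback.π_arrow]) j)) (fun s => ?_) (fun s => ?_) fun s m h1 h2 => ?_
  · exact WidePullback.lift_π _ _ _ _ _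
  · refine WidePullback.hom_ext _ _ _ (fun l => ?_) ?_
    · rw [Category.assoc, drop, WidePullback.lift_π, WidePullback.lift_π]; rfl
    · rw [Category.assoc, drop, WidePullback.lift_base, WidePullback.lift_base]
  · refine WidePullback.hom_ext _ _ _ (fun j => ?_) ?_
    · rw [WidePullback.lift_π]
      refine Fin.cases ?_ (fun l => ?_) j
      · exact h1
      · show m ≫ _ = s.snd ≫ _
        rw [← h2, Category.assoc, drop, WidePullback.lift_π]
    · rw [WidePullback.lift_base, ← h2, Category.assoc, drop, WidePullback.lift_base]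

theorem isProper_base [IsProper f] : ∀ n : ℕ, IsProper (WidePullback.base (fun _ : Fin n => f))
  | 0 => by
    haveI : IsIso (WidePullback.base (fun _ : Fin 0 => f)) :=
      ⟨WidePullback.lift (𝟙 S) (fun j => j.elim0) (fun j => j.elim0),
        WidePullback.hom_ext _ _ _ (fun j => j.elim0) (by rw [Category.assoc, WidePullback.lift_base]; simp),
        WidePullback.lift_base _ _ _ _⟩
    infer_instance
  | n + 1 => by
    haveI := isProper_base n
    haveI : IsProper (drop f n) := MorphismProperty.of_isPullback (isPullback_succ f n) inferInstance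
    rw [show WidePullback.base (fun _ : Fin (n + 1) => f) = drop f n ≫ WidePullback.base _ from
      (WidePullback.lift_base _ _ _ _).symm]
    infer_instance

end FibPow

variable {k : Type u} [Field k] [IsAlgClosed k]

/-- the image of a rational point -/
def pt {Y : Over (Spec (CommRingCat.of k))} (a : 𝟙_ (Over (Spec (CommRingCat.of k))) ⟶ Y) : Y.left :=
  a.left (show Spec (CommRingCat.of k) from IsLocalRing.closedPoint k)

theorem forall_mem_iff {Y : Over (Spec (CommRingCat.of k))} (a : 𝟙_ (Over (Spec (CommRingCat.of k))) ⟶ Y)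
    (Z : Set Y.left) : (∀ p, a.left.base p ∈ Z) ↔ pt a ∈ Z := by
  haveI : Subsingleton (𝟙_ (Over (Spec (CommRingCat.of k)))).left := inferInstanceAs (Subsingleton (PrimeSpectrum k))
  refine ⟨fun h => h _, fun h p => ?_⟩
  rw [Subsingleton.elim p (show Spec (CommRingCat.of k) from IsLocalRing.closedPoint k)]
  exact h

theorem pt_comp {Y Z : Over (Spec (CommRingCat.of k))} (a : 𝟙_ (Over (Spec (CommRingCat.of k))) ⟶ Y) (φ : Y ⟶ Z) :
    φ.left.base (pt a) = pt (a ≫ φ) := rfl

theorem exists_pt {Y : Over (Spec (CommRingCat.of k))} [LocallyOfFiniteType Y.hom] {y : Y.left}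
    (hy : IsClosed ({y} : Set Y.left)) : ∃ a : 𝟙_ (Over (Spec (CommRingCat.of k))) ⟶ Y, pt a = y := by
  let s := (pointEquivClosedPoint Y.hom).symm ⟨y, hy⟩
  exact ⟨Over.homMk s.1 s.2, congrArg Subtype.val ((pointEquivClosedPoint Y.hom).apply_symm_apply ⟨y, hy⟩)⟩

theorem pt_injective {Y : Over (Spec (CommRingCat.of k))} [LocallyOfFiniteType Y.hom]
    {a b : 𝟙_ (Over (Spec (CommRingCat.of k))) ⟶ Y} (h : pt a = pt b) : a = b :=
  Over.OverMorphism.ext (ext_of_apply_closedPoint_eq Y.hom (Over.w a) (Over.w b) h)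

theorem subset_of_pts {Y : Over (Spec (CommRingCat.of k))} [LocallyOfFiniteType Y.hom] {Z Z' : Set Y.left}
    (hZ : IsClosed Z) (hZ' : IsClosed Z')
    (h : ∀ a : 𝟙_ (Over (Spec (CommRingCat.of k))) ⟶ Y, pt a ∈ Z → pt a ∈ Z') : Z ⊆ Z' := by
  haveI : JacobsonSpace Y.left := LocallyOfFiniteType.jacobsonSpace Y.hom
  rw [← closure_inter_closedPoints hZ]
  refine closure_minimal ?_ hZ'
  rintro y ⟨hy, hc⟩
  obtain ⟨a, rfl⟩ := exists_pt (Y := Y) hc
  exact h a hy

variable {J : Over (Spec (CommRingCat.of k))} [GrpObj J] [IsCommMonObj J]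

theorem comp_prod_ofFn {T T' : Over (Spec (CommRingCat.of k))} (q : T' ⟶ T) : ∀ (n : ℕ) (v : Fin n → (T ⟶ J)),
    q ≫ (List.ofFn v).prod = (List.ofFn fun j => q ≫ v j).prod
  | 0, v => by simp [MonObj.comp_one]
  | n + 1, v => by
    rw [List.ofFn_succ, List.ofFn_succ, List.prod_cons, List.prod_cons, MonObj.comp_mul, comp_prod_ofFn q n]

theorem comp_transl {T : Over (Spec (CommRingCat.of k))} (c : T ⟶ J) (a : 𝟙_ (Over (Spec (CommRingCat.of k))) ⟶ J) :
    c ≫ Jac.transl J a = c * (toUnit T ≫ a) := by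
  rw [Jac.transl, MonObj.comp_mul, Category.comp_id, ← Category.assoc, toUnit_unique (c ≫ toUnit J) (toUnit T)]

theorem pt_transl (c a : 𝟙_ (Over (Spec (CommRingCat.of k))) ⟶ J) :
    (Jac.transl J a).left.base (pt c) = pt (c * a) := by
  rw [pt_comp, comp_transl, toUnit_unique (toUnit _) (𝟙 _), Category.id_comp]

theorem transl_transl (a : 𝟙_ (Over (Spec (CommRingCat.of k))) ⟶ J) :
    Jac.transl J a ≫ Jac.transl J a⁻¹ = 𝟙 J := by
  rw [comp_transl, Jac.transl, _root_.mul_assoc, ← MonObj.comp_mul, mul_inv_cancel, MonObj.comp_one,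
    _root_.mul_one]

theorem image_transl (a : 𝟙_ (Over (Spec (CommRingCat.of k))) ⟶ J) (Z : Set J.left) :
    (Jac.transl J a).left.base '' Z = (Jac.transl J a⁻¹).left.base ⁻¹' Z := by
  have h1 : ∀ (b : 𝟙_ (Over (Spec (CommRingCat.of k))) ⟶ J) (y : J.left),
      (Jac.transl J b⁻¹).left.base ((Jac.transl J b).left.base y) = y := fun b y =>
    congr($(transl_transl b).left y)
  ext y
  constructor
  · rintro ⟨z, hz, rfl⟩
    show _ ∈ Z
    rw [h1]
    exact hz
  · intro hy
    refine ⟨_, hy, ?_⟩
    have := h1 a⁻¹ y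
    rwa [inv_inv] at this

theorem pt_mem_image_transl (c a : 𝟙_ (Over (Spec (CommRingCat.of k))) ⟶ J) (Z : Set J.left) :
    pt c ∈ (Jac.transl J a).left.base '' Z ↔ pt (c * a⁻¹) ∈ Z := by
  rw [image_transl, Set.mem_preimage, pt_transl]

theorem isClosed_image_transl (a : 𝟙_ (Over (Spec (CommRingCat.of k))) ⟶ J) {Z : Set J.left} (hZ : IsClosed Z) :
    IsClosed ((Jac.transl J a).left.base '' Z) := by
  rw [image_transl]
  exact hZ.preimage (Jac.transl J a⁻¹).left.continuous

variable {C : Scheme.{u}} (f : C ⟶ Spec (CommRingCat.of k)) [IsProper f] (j : Over.mk f ⟶ J)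

/-- the sum map on the n-fold product -/
abbrev sumMap (n : ℕ) : Over.mk (WidePullback.base fun (_ : Fin n) => f) ⟶ J :=
  (List.ofFn fun i : Fin n => (Over.homMk (WidePullback.π (fun (_ : Fin n) => f) i)
    (WidePullback.π_arrow (fun (_ : Fin n) => f) i) : Over.mk (WidePullback.base fun (_ : Fin n) => f) ⟶ Over.mk f) ≫ j).prod

theorem isClosed_range_sumMap [IsSeparated J.hom] (n : ℕ) : IsClosed (Set.range (sumMap f j n).left.base) := by
  haveI : IsProper (Over.mk (WidePullback.base fun (_ : Fin n) => f)).hom := isProper_base f n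
  haveI : IsProper ((sumMap f j n).left ≫ J.hom) := by rw [Over.w]; infer_instance
  haveI : IsProper (sumMap f j n).left := IsProper.of_comp _ J.hom
  exact (sumMap f j n).left.isClosedMap.isClosed_range

theorem comp_sumMap {n : ℕ} (q : 𝟙_ (Over (Spec (CommRingCat.of k))) ⟶ Over.mk (WidePullback.base fun (_ : Fin n) => f)) :
    q ≫ sumMap f j n = (List.ofFn fun i : Fin n => (q ≫ (Over.homMk (WidePullback.π (fun (_ : Fin n) => f) i)
      (WidePullback.π_arrow (fun (_ : Fin n) => f) i) : Over.mk (WidePullback.base fun (_ : Fin n) => f) ⟶ Over.mk f)) ≫ j).prod := by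
  rw [comp_prod_ofFn]
  simp only [Category.assoc]

theorem mem_range_sumMap [LocallyOfFiniteType J.hom] (n : ℕ) (a : 𝟙_ (Over (Spec (CommRingCat.of k))) ⟶ J) :
    pt a ∈ Set.range (sumMap f j n).left.base ↔
      ∃ x : Fin n → (𝟙_ (Over (Spec (CommRingCat.of k))) ⟶ Over.mk f), a = (List.ofFn fun i => x i ≫ j).prod := by
  let P := Over.mk (WidePullback.base fun (_ : Fin n) => f)
  haveI : IsProper P.hom := isProper_base f n
  constructor
  · intro ha
    haveI : JacobsonSpace P.left := LocallyOfFiniteType.jacobsonSpace P.hom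
    have hcl : IsClosed ({pt a} : Set J.left) := (pointEquivClosedPoint J.hom ⟨a.left, Over.w a⟩).2
    obtain ⟨w₀, hw₀⟩ := ha
    obtain ⟨w, hw, hwc⟩ := nonempty_inter_closedPoints (X := P.left) ⟨w₀, (show w₀ ∈ (sumMap f j n).left.base ⁻¹' {pt a} from hw₀)⟩
      (hcl.preimage (sumMap f j n).left.continuous).isLocallyClosed
    obtain ⟨q, rfl⟩ := exists_pt (Y := P) hwc
    refine ⟨fun i => q ≫ Over.homMk (WidePullback.π (fun (_ : Fin n) => f) i)
      (WidePullback.π_arrow (fun (_ : Fin n) => f) i), ?_⟩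
    rw [← comp_sumMap]
    exact (pt_injective (show pt (q ≫ sumMap f j n) = pt a from hw)).symm
  · rintro ⟨x, rfl⟩
    let q : 𝟙_ (Over (Spec (CommRingCat.of k))) ⟶ P :=
      Over.homMk (WidePullback.lift (𝟙 _) (fun i => (x i).left) (fun i => Over.w (x i))) (WidePullback.lift_base _ _ _ _)
    refine ⟨pt q, ?_⟩
    rw [pt_comp, comp_sumMap]
    congr 3
    funext i
    congr 1
    exact Over.OverMorphism.ext (WidePullback.lift_π _ _ _ _ _)

end Groth.Agent.PicCurve.Pts

end
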