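import Groth.Agent.PicCurve.Pts.Main
import Groth.Agent.PicCurve.Alb.CoarseClass

/-!
# The involution of the sums of g - 1 points given by the canonical class
-/

noncomputable section

set_option autoImplicit false
set_option linter.style.haveILetI false
set_option linter.unusedSectionVars false
set_option backward.isDefEq.respectTransparency false
set_option backward.isDefEq.respectTransparency.types false
set_option maxHeartbeats 1000000
attribute [-instance] CategoryTheory.catToReflQuiver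

universe u

open CategoryTheory CategoryTheory.Limits AlgebraicGeometry TopologicalSpace
  MonoidalCategory CartesianMonoidalCategory
open scoped MonObj
open Groth.Agent.H23.PicMul

namespace Groth.Agent.PicCurve.Pts

open Alb

variable {k : Type u} [Field k] [IsAlgClosed k] (C : Scheme.{u}) [C.Over (Spec (CommRingCat.of k))]
  [IsProper (C ↘ Spec (CommRingCat.of k))] [Smooth (C ↘ Spec (CommRingCat.of k))]
  [GeometricallyConnected (C ↘ Spec (CommRingCat.of k))]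
  (hdim : topologicalKrullDim C = 1) (σ : Spec (CommRingCat.of k) ⟶ C)
  (hσ : σ ≫ (C ↘ Spec (CommRingCat.of k)) = 𝟙 _)
  {J : Over (Spec (CommRingCat.of k))} [GrpObj J] [IsCommMonObj J]
  {ψ : (ModFun.PicDeg (C ↘ Spec (CommRingCat.of k)) 0).Hom ⊤ J}
  (hJ : Jac.IsJacobian (C ↘ Spec (CommRingCat.of k)) ⊤ J ψ)
  {j : Over.mk (C ↘ Spec (CommRingCat.of k)) ⟶ J}
  (hj : Jac.IsAbelJacobiAt (C ↘ Spec (CommRingCat.of k)) σ ψ j)

include hdim hσ hJ hj in
theorem canonical_involution {g : ℕ} (hg : Curv2.genus k C = g) (hg2 : 2 ≤ g)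
    (Kf : (PicF.XT (C ↘ Spec (CommRingCat.of k)) (𝟙_ (Over (Spec (CommRingCat.of k))))).Modules)
    (hKf : Nonempty (Kf ≅ (Scheme.Modules.pullback (pullback.fst (C ↘ Spec (CommRingCat.of k))
      (𝟙_ (Over (Spec (CommRingCat.of k)))).hom)).obj
      (CohB1.tensorMod (Omega.sheaf (C ↘ Spec (CommRingCat.of k))) (CohB1.tensorPow (ClSub.idealMod σ.ker) (2 * g - 2)))))
    (hKok : (ModFun.PicDeg (C ↘ Spec (CommRingCat.of k)) 0).ok (𝟙_ (Over (Spec (CommRingCat.of k)))) Kf)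
    {κ : 𝟙_ (Over (Spec (CommRingCat.of k))) ⟶ J}
    (hκ : ψ.app (𝟙_ (Over (Spec (CommRingCat.of k)))) Kf trivial hKok = κ)
    {a : 𝟙_ (Over (Spec (CommRingCat.of k))) ⟶ J} (ha : a ∈ WJ (C ↘ Spec (CommRingCat.of k)) j (g - 1)) :
    κ * a⁻¹ ∈ WJ (C ↘ Spec (CommRingCat.of k)) j (g - 1) := by
  let f := C ↘ Spec (CommRingCat.of k)
  haveI : IsProper f := ‹_›
  haveI : Smooth f := ‹_›
  haveI : ConnectedSpace C := connectedSpace_of_geomConn f
  haveI : GeometricallyIntegral f := Groth.Agent.S7791.result f σ hσ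
  haveI : IsIntegral C := GeometricallyIntegral.isIntegral_of_subsingleton f
  haveI : SmoothOfRelativeDimension 1 f := Groth.Agent.HilbCurve.smoothOfRelativeDimension_one f hdim
  obtain ⟨J₀, ξ, hp, hsm, hi, hξ, huniv⟩ := Groth.Agent.PicCurve.exists_jacobian_field f hdim σ hσ
  haveI := hp; haveI := hsm; haveI := hi
  haveI : IrreducibleSpace J₀.left := GeometricallyIrreducible.irreducibleSpace_of_subsingleton J₀.hom
  letI := PicCurve.jacGrpObj f hdim σ hσ ξ hξ huniv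
  obtain ⟨e, he, he', hej, hpt⟩ := exists_iso_jac_class f hdim σ hσ ξ hξ huniv hJ hj
  haveI := he
  haveI := he'
  have key : ∀ (m : ℕ) (a : 𝟙_ (Over (Spec (CommRingCat.of k))) ⟶ J₀),
      a ≫ e.hom ∈ WJ f j m ↔ a ∈ Wpts hdim σ hσ ξ hξ huniv m := by
    intro m a
    constructor
    · rintro ⟨x, hx⟩
      refine ⟨x, ?_⟩
      rw [← Category.comp_id a, ← e.hom_inv_id, ← Category.assoc, hx, prod_comp_hom e.inv]
      simp only [← hej, Category.assoc, e.hom_inv_id, Category.comp_id]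
      rfl
    · rintro ⟨x, rfl⟩
      refine ⟨x, ?_⟩
      rw [prod_comp_hom e.hom]
      simp only [Category.assoc]
      congr 2
      funext i
      exact congrArg (x i ≫ ·) hej
  have hΩ := CurveFF.isInvertible_Ωm k C hdim
  have hδ := isInvertibleCl_δ f σ hσ
  let c : PicF.Cl C := PicF.cl (CurveFF.Ωm k C) * δ σ ^ (2 * g - 2)
  have hc : PicF.IsInvertibleCl c := isInvertibleCl_mul ⟨_, rfl, hΩ⟩ (isInvertibleCl_pow hδ _)
  have hdΩ : degX f (PicF.cl (CurveFF.Ωm k C)) = 2 * (g : ℤ) - 2 := by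
    rw [degX_cl (k := k) hdim.le hΩ, (CurveFF.canonical_invariants k C hdim).2, hg]
  obtain ⟨κ₀, hκ₀⟩ := exists_A f σ hσ ξ huniv hc (by
    rw [degX_mul f hdim ⟨_, rfl, hΩ⟩ (isInvertibleCl_pow hδ _), degX_δ_pow f hdim σ hσ, hdΩ]
    omega)
  have hκe : κ = κ₀ ≫ e.hom := by
    rw [← hκ]
    refine hpt _ Kf hKok κ₀ 1 Alb.isInvertibleCl_one ?_
    rw [pullCl_one, _root_.mul_one, ← pull_A f σ hσ ξ κ₀, hκ₀]
    obtain ⟨φ⟩ := hKf
    refine (cl_eq_iff.2 ⟨φ⟩).trans ?_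
    show PicF.pullCl (p₁ f) (PicF.cl _) = _
    congr 1
    exact (cl_tensor _ _).trans (congrArg (_ * ·) (cl_tensorPow _ _))
  obtain ⟨a₀, rfl⟩ : ∃ a₀, a = a₀ ≫ e.hom := ⟨a ≫ e.inv, by rw [Category.assoc, e.inv_hom_id, Category.comp_id]⟩
  rw [hκe, ← GrpObj.inv_comp, ← MonObj.mul_comp, key]
  rw [key] at ha
  obtain ⟨M, hMcl, hM⟩ := isInvertibleCl_clN f σ hσ ξ (g - 1) a₀
  rw [mem_Wpts_iff hdim σ hσ ξ hξ huniv (g - 1) a₀ hM hMcl] at ha
  obtain ⟨D, hD, ⟨u⟩⟩ := H23.PicInv.exists_inverse hM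
  have hN : PicF.IsInvertible (CohB1.tensorMod (CurveFF.Ωm k C) D) := InvX.isInvertible_tensorMod hΩ hD
  have hcl : PicF.cl (CohB1.tensorMod (CurveFF.Ωm k C) D) = clN f σ hσ ξ (g - 1) (κ₀ * a₀⁻¹) := by
    refine eq_of_invCl_mul (isInvertibleCl_mul (isInvertibleCl_A f σ hσ ξ a₀) (isInvertibleCl_pow hδ (g - 1))) ?_
    have hu : PicF.cl M * PicF.cl D = 1 := cl_eq_iff.2 ⟨u⟩
    rw [mul_left_comm (clN f σ hσ ξ (g - 1) _), clN_mul_pow,
      _root_.mul_comm (A f σ hσ ξ a₀) (A f σ hσ ξ (κ₀ * a₀⁻¹)), ← A_mul f hdim σ hσ ξ hξ huniv,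
      inv_mul_cancel_right, hκ₀, cl_tensor, ← clN_mul_pow f σ hσ ξ (g - 1) a₀, ← hMcl]
    show PicF.cl (CurveFF.Ωm k C) * PicF.cl D * (PicF.cl M * δ σ ^ (g - 1) * δ σ ^ (g - 1)) = _
    rw [_root_.mul_assoc (PicF.cl M), ← pow_add, show g - 1 + (g - 1) = 2 * g - 2 by omega,
      _root_.mul_assoc, ← _root_.mul_assoc (PicF.cl D), _root_.mul_comm (PicF.cl D), hu, _root_.one_mul]
  rw [mem_Wpts_iff hdim σ hσ ξ hξ huniv (g - 1) _ hN hcl]
  have h1 := CurveFF.finrank_h1_eq k hdim hM u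
  have hd := degX_cl (k := k) hdim.le hM
  rw [hMcl, degX_clN f hdim σ hσ ξ hξ, CurveCohLib.Clifford.deg_eq k hdim hM, hg] at hd
  rw [← h1]
  omega

end Groth.Agent.PicCurve.Pts

end
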