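import Groth.Agent.PicCurve.Alb.Gonal
import Groth.Agent.CanonDual.DegSub
import Groth.Agent.Lib.CurvePoint

/-!
# Points of the Jacobian as classes of degree zero on the curve
-/

noncomputable section

set_option autoImplicit false
set_option linter.style.haveILetI false
set_option linter.unusedSectionVars false
set_option backward.isDefEq.respectTransparency false
set_option backward.isDefEq.respectTransparency.types false
set_option maxHeartbeats 1000000
set_option synthInstance.maxHeartbeats 400000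
attribute [-instance] CategoryTheory.catToReflQuiver

universe u

open CategoryTheory CategoryTheory.Limits AlgebraicGeometry TopologicalSpace Opposite
  MonoidalCategory CartesianMonoidalCategory
open scoped MonObj
open Groth.Agent.H23.PicMul Groth.Agent.InvX

namespace Groth.Agent.PicCurve.Pts

open HilbDLib Alb

section

variable {k : Type u} [Field k] {X : Scheme.{u}} (f : X ⟶ Spec (CommRingCat.of k))
  [IsProper f] [Smooth f] [SmoothOfRelativeDimension 1 f] [GeometricallyIntegral f] [IsIntegral X]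
  (hdim : topologicalKrullDim X = 1) (σ : Spec (CommRingCat.of k) ⟶ X) (hσ : σ ≫ f = 𝟙 _)
  {J : Over (Spec (CommRingCat.of k))} (ξ : PicF.Rig f σ hσ J) (hξ : FGA.HasFibreDegreeZeroCl f J ξ.1)
  (huniv : ∀ (T : Over (Spec (CommRingCat.of k))) (c : PicF.Rig f σ hσ T), FGA.HasFibreDegreeZeroCl f T c.1 →
    ∃! g : T ⟶ J, PicF.pullCl (PicF.XTmap f g) ξ.1 = c.1)

local notation "Pt" => (𝟙_ (Over (Spec (CommRingCat.of k))))

/-- the first projection of the curve over the point -/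
abbrev p₁ : PicF.XT f Pt ⟶ X := pullback.fst f (𝟙 (Spec (CommRingCat.of k)))

instance : IsIso (p₁ f) := inferInstance

/-- the class on the curve of a point of the Jacobian -/
def A (a : Pt ⟶ J) : PicF.Cl X := PicF.pullCl (inv (p₁ f)) (PicF.pullCl (PicF.XTmap f a) ξ.1)

/-- the class of the ideal of a rational point -/
abbrev ptCl (x : Pt ⟶ Over.mk f) : PicF.Cl X := PicF.cl (ClSub.idealMod x.left.ker)

theorem isInvertibleCl_A (a : Pt ⟶ J) : PicF.IsInvertibleCl (A f σ hσ ξ a) :=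
  FppfPic.isInvertibleCl_pull _ (FppfPic.isInvertibleCl_pull _ ξ.2.1)

theorem pull_A (a : Pt ⟶ J) : PicF.pullCl (p₁ f) (A f σ hσ ξ a) = PicF.pullCl (PicF.XTmap f a) ξ.1 := by
  rw [A, PicClLib.pullCl_comp, IsIso.hom_inv_id, PicClLib.pullCl_id]

theorem isInvertibleCl_ptCl (x : Pt ⟶ Over.mk f) : PicF.IsInvertibleCl (ptCl f x) :=
  isInvertibleCl_δ f x.left (Over.w x)

include hdim hξ huniv in
theorem A_mul (a b : Pt ⟶ J) :
    letI := jacGrpObj f hdim σ hσ ξ hξ huniv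
    A f σ hσ ξ (a * b) = A f σ hσ ξ a * A f σ hσ ξ b := by
  rw [A, A, A, ← pullCl_mul, jac_pull_mul f hdim σ hσ ξ hξ huniv a b]

include hdim hξ huniv in
theorem A_one :
    letI := jacGrpObj f hdim σ hσ ξ hξ huniv
    A f σ hσ ξ (1 : Pt ⟶ J) = 1 := by
  letI := jacGrpObj f hdim σ hσ ξ hξ huniv
  have h := A_mul f hdim σ hσ ξ hξ huniv (1 : Pt ⟶ J) 1
  rw [_root_.one_mul] at h
  exact (isUnit_of_isInvertibleCl (isInvertibleCl_A f σ hσ ξ _)).mul_eq_right.1 h.symm

include huniv hξ in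
theorem A_injective : Function.Injective (A f σ hσ ξ) := fun a b h => by
  have h' : rigPull f σ hσ a ξ = rigPull f σ hσ b ξ := by
    refine Subtype.ext ?_
    show PicF.pullCl _ ξ.1 = PicF.pullCl _ ξ.1
    rw [← pull_A f σ hσ ξ, ← pull_A f σ hσ ξ, h]
  exact eq_of_rigPull f σ hσ ξ hξ huniv h'

include hξ in
theorem degX_A (a : Pt ⟶ J) : degX f (A f σ hσ ξ a) = 0 := by
  show degCl f (PicF.pullCl (p₁ f) (A f σ hσ ξ a)) _ = 0
  rw [pull_A]
  exact (deg0At_iff f _ _).1 ((hasFibreDegreeZeroCl_iff f _).1 (rig0Pull f σ hσ a ⟨ξ, hξ⟩).2 _)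

include huniv in
theorem exists_A {c : PicF.Cl X} (hc : PicF.IsInvertibleCl c) (hd : degX f c = 0) :
    ∃ a : Pt ⟶ J, A f σ hσ ξ a = c := by
  haveI : Subsingleton (Pt : Over (Spec (CommRingCat.of k))).left := inferInstanceAs (Subsingleton (PrimeSpectrum k))
  haveI : Nonempty (Pt : Over (Spec (CommRingCat.of k))).left := inferInstanceAs (Nonempty (PrimeSpectrum k))
  have hc' := FppfPic.isInvertibleCl_pull (p₁ f) hc
  have hsec : PicF.pullCl (PicF.secT f σ hσ Pt) (PicF.pullCl (p₁ f) c) = 1 :=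
    eq_one_of_subsingleton (FppfPic.isInvertibleCl_pull _ hc')
  obtain ⟨a, ha, -⟩ := huniv Pt ⟨_, hc', hsec⟩ ((hasFibreDegreeZeroCl_iff f _).2 fun t => (deg0At_iff f _ _).2 (by
    rw [← hd]
    exact congrArg _ (Subsingleton.elim _ _)))
  refine ⟨a, ?_⟩
  rw [A, ha]
  show PicF.pullCl (inv (p₁ f)) (PicF.pullCl (p₁ f) c) = c
  rw [PicClLib.pullCl_comp, IsIso.inv_hom_id, PicClLib.pullCl_id]

theorem basePt_pt : basePt f σ hσ Pt = (Over.homMk σ hσ : Pt ⟶ Over.mk f) := by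
  rw [basePt, toUnit_unique (toUnit _) (𝟙 _), Category.id_comp]

include hdim in
theorem pull_ptCl (x : Pt ⟶ Over.mk f) : PicF.pullCl (p₁ f) (ptCl f x) = idl f (gr x) := by
  have h := tw_δ f hdim x.left (Over.w x) Pt
  rw [basePt_pt] at h
  exact h

include hdim hξ huniv in
theorem A_aj (x : Pt ⟶ Over.mk f) :
    A f σ hσ ξ (x ≫ aj f hdim σ hσ ξ hξ huniv) * ptCl f x = δ σ := by
  haveI : Subsingleton (Pt : Over (Spec (CommRingCat.of k))).left := inferInstanceAs (Subsingleton (PrimeSpectrum k))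
  haveI : Nonempty (Pt : Over (Spec (CommRingCat.of k))).left := inferInstanceAs (Nonempty (PrimeSpectrum k))
  refine (pullEquiv (p₁ f)).injective ?_
  show PicF.pullCl (p₁ f) (A f σ hσ ξ (x ≫ aj f hdim σ hσ ξ hξ huniv) * ptCl f x) = PicF.pullCl (p₁ f) (δ σ)
  rw [pullCl_mul, pull_A, show PicF.pullCl (PicF.XTmap f (x ≫ aj f hdim σ hσ ξ hξ huniv)) ξ.1 = _ from
    congrArg Subtype.val (rigPull_aj f hdim σ hσ ξ hξ huniv x), pull_ptCl f hdim]
  show divCl f σ 1 (grObj f x) * PicF.pullCl _ _ * _ = tw f (δ σ) Pt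
  rw [eq_one_of_subsingleton (isInvertibleCl_invCl _), pullCl_one, _root_.mul_one, divCl, pow_one, oCl,
    _root_.mul_comm (invCl _), _root_.mul_assoc, invCl_mul, _root_.mul_one]

/-- the class of degree n belonging to a point of the Jacobian -/
def clN (n : ℕ) (a : Pt ⟶ J) : PicF.Cl X :=
  A f σ hσ ξ a * invCl (isInvertibleCl_pow (isInvertibleCl_δ f σ hσ) n)

theorem clN_mul_pow (n : ℕ) (a : Pt ⟶ J) : clN f σ hσ ξ n a * δ σ ^ n = A f σ hσ ξ a := by
  rw [clN, _root_.mul_assoc, invCl_mul, _root_.mul_one]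

theorem isInvertibleCl_clN (n : ℕ) (a : Pt ⟶ J) : PicF.IsInvertibleCl (clN f σ hσ ξ n a) :=
  isInvertibleCl_mul (isInvertibleCl_A f σ hσ ξ a) (isInvertibleCl_invCl _)

theorem pull_clN (n : ℕ) (a : Pt ⟶ J) :
    PicF.pullCl (p₁ f) (clN f σ hσ ξ n a) = PicF.pullCl (PicF.XTmap f a) (shCl f σ hσ ξ n) := by
  refine eq_of_invCl_mul (isInvertibleCl_pow (isInvertibleCl_tw (isInvertibleCl_δ f σ hσ) Pt) n) ?_
  rw [pull_shCl f σ hσ ξ a n]
  show _ = PicF.pullCl _ ξ.1
  rw [← pull_A f σ hσ ξ a, ← clN_mul_pow f σ hσ ξ n a]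
  conv_rhs => rw [pullCl_mul, Alb.pullCl_pow]
  rfl

include hdim hσ in
theorem degX_δ : degX f (δ σ) = -1 := by
  show degCl f (PicF.pullCl (p₁ f) (δ σ)) _ = -1
  rw [show PicF.pullCl (p₁ f) (δ σ) = _ from tw_δ f hdim σ hσ Pt, ← neg_eq_iff_eq_neg,
    ← degCl_invCl f hdim (isInvertibleCl_idl f (grObj f _))]
  exact degCl_oCl f hdim (grObj f _) _

include hdim hσ in
theorem degX_δ_pow (n : ℕ) : degX f (δ σ ^ n) = -n := by
  rw [degX_pow f hdim (isInvertibleCl_δ f σ hσ), degX_δ f hdim σ hσ, mul_neg, mul_one]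

include hdim hξ in
theorem degX_clN (n : ℕ) (a : Pt ⟶ J) : degX f (clN f σ hσ ξ n a) = n := by
  have h := degX_mul f hdim (isInvertibleCl_clN f σ hσ ξ n a) (isInvertibleCl_pow (isInvertibleCl_δ f σ hσ) n)
  rw [clN_mul_pow, degX_A f σ hσ ξ hξ, degX_δ_pow f hdim σ hσ] at h
  omega

include hdim hξ huniv in
theorem exists_clN (n : ℕ) {c : PicF.Cl X} (hc : PicF.IsInvertibleCl c) (hd : degX f c = n) :
    ∃ a : Pt ⟶ J, clN f σ hσ ξ n a = c := by
  have hn := isInvertibleCl_pow (isInvertibleCl_δ f σ hσ) n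
  obtain ⟨a, ha⟩ := exists_A f σ hσ ξ huniv (isInvertibleCl_mul hc hn) (by
    rw [degX_mul f hdim hc hn, degX_δ_pow f hdim σ hσ, hd, add_neg_cancel])
  refine ⟨a, ?_⟩
  rw [clN, ha, _root_.mul_assoc, mul_invCl, _root_.mul_one]

end

end Groth.Agent.PicCurve.Pts

end
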