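import Groth.Agent.PicCurve.Pts.Dict

/-!
# Sums of points in the Jacobian and sections
-/

noncomputable section

set_option autoImplicit false
set_option linter.style.haveILetI false
set_option linter.unusedSectionVars false
set_option backward.isDefEq.respectTransparency false
set_option backward.isDefEq.respectTransparency.types false
set_option maxHeartbeats 1000000
set_option synthInstance.maxHeartbeats 400000
attribute [-instance] CategoryTheory.catToReflQuiver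

universe u

open CategoryTheory CategoryTheory.Limits AlgebraicGeometry TopologicalSpace Opposite
  MonoidalCategory CartesianMonoidalCategory
open scoped MonObj
open Groth.Agent.H23.PicMul Groth.Agent.InvX

namespace Groth.Agent.PicCurve.Pts

open HilbDLib Alb

variable {k : Type u} [Field k] [IsAlgClosed k] {X : Scheme.{u}} [X.Over (Spec (CommRingCat.of k))]
  [IsProper (X ↘ Spec (CommRingCat.of k))] [Smooth (X ↘ Spec (CommRingCat.of k))]
  [SmoothOfRelativeDimension 1 (X ↘ Spec (CommRingCat.of k))]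
  [GeometricallyIntegral (X ↘ Spec (CommRingCat.of k))] [IsIntegral X]
  (hdim : topologicalKrullDim X = 1) (σ : Spec (CommRingCat.of k) ⟶ X)
  (hσ : σ ≫ (X ↘ Spec (CommRingCat.of k)) = 𝟙 _)
  {J : Over (Spec (CommRingCat.of k))} (ξ : PicF.Rig (X ↘ Spec (CommRingCat.of k)) σ hσ J)
  (hξ : FGA.HasFibreDegreeZeroCl (X ↘ Spec (CommRingCat.of k)) J ξ.1)
  (huniv : ∀ (T : Over (Spec (CommRingCat.of k))) (c : PicF.Rig (X ↘ Spec (CommRingCat.of k)) σ hσ T),
    FGA.HasFibreDegreeZeroCl (X ↘ Spec (CommRingCat.of k)) T c.1 →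
    ∃! g : T ⟶ J, PicF.pullCl (PicF.XTmap (X ↘ Spec (CommRingCat.of k)) g) ξ.1 = c.1)
  [IsProper J.hom]


/-- sums of images of n points -/
def Wpts (n : ℕ) : Set ((𝟙_ (Over (Spec (CommRingCat.of k)))) ⟶ J) :=
  letI := jacGrpObj (X ↘ Spec (CommRingCat.of k)) hdim σ hσ ξ hξ huniv
  {a | ∃ x : Fin n → ((𝟙_ (Over (Spec (CommRingCat.of k)))) ⟶ Over.mk (X ↘ Spec (CommRingCat.of k))), a = (List.ofFn fun i => x i ≫ aj (X ↘ Spec (CommRingCat.of k)) hdim σ hσ ξ hξ huniv).prod}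

variable (D : Tower (X ↘ Spec (CommRingCat.of k)))

include hdim hξ huniv in
theorem exists_tuple : ∀ (n : ℕ) (E : (𝟙_ (Over (Spec (CommRingCat.of k)))) ⟶ D.H n), letI := jacGrpObj (X ↘ Spec (CommRingCat.of k)) hdim σ hσ ξ hξ huniv
    ∃ x : Fin n → ((𝟙_ (Over (Spec (CommRingCat.of k)))) ⟶ Over.mk (X ↘ Spec (CommRingCat.of k))),
      E ≫ toJ (X ↘ Spec (CommRingCat.of k)) hdim σ hσ ξ hξ huniv D n = (List.ofFn fun i => x i ≫ aj (X ↘ Spec (CommRingCat.of k)) hdim σ hσ ξ hξ huniv).prod := by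
  letI := jacGrpObj (X ↘ Spec (CommRingCat.of k)) hdim σ hσ ξ hξ huniv
  haveI := jac_isCommMonObj (X ↘ Spec (CommRingCat.of k)) hdim σ hσ ξ hξ huniv
  intro n
  induction n with
  | zero =>
    intro E
    refine ⟨Fin.elim0, ?_⟩
    rw [List.ofFn_zero, List.prod_nil, toJ, sum_zero, MonObj.comp_one]
  | succ n ih =>
    intro E
    obtain ⟨E₀, y, rfl⟩ := exists_pair (X ↘ Spec (CommRingCat.of k)) (𝟙 _) D n E
    obtain ⟨x, hx⟩ := ih E₀
    refine ⟨Fin.snoc x y, ?_⟩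
    rw [Category.assoc, toJ, pair_m_sum D (aj (X ↘ Spec (CommRingCat.of k)) hdim σ hσ ξ hξ huniv) hdim n E₀ y, List.ofFn_succ', List.prod_concat]
    simp only [Fin.snoc_castSucc, Fin.snoc_last]
    rw [← hx]
    rfl

include hdim hξ huniv in
theorem exists_divisor : ∀ (n : ℕ) (x : Fin n → ((𝟙_ (Over (Spec (CommRingCat.of k)))) ⟶ Over.mk (X ↘ Spec (CommRingCat.of k)))), letI := jacGrpObj (X ↘ Spec (CommRingCat.of k)) hdim σ hσ ξ hξ huniv
    ∃ E : (𝟙_ (Over (Spec (CommRingCat.of k)))) ⟶ D.H n,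
      E ≫ toJ (X ↘ Spec (CommRingCat.of k)) hdim σ hσ ξ hξ huniv D n = (List.ofFn fun i => x i ≫ aj (X ↘ Spec (CommRingCat.of k)) hdim σ hσ ξ hξ huniv).prod := by
  letI := jacGrpObj (X ↘ Spec (CommRingCat.of k)) hdim σ hσ ξ hξ huniv
  haveI := jac_isCommMonObj (X ↘ Spec (CommRingCat.of k)) hdim σ hσ ξ hξ huniv
  intro n
  induction n with
  | zero =>
    intro x
    obtain ⟨E, -, -⟩ := D.univ 0 (𝟙_ (Over (Spec (CommRingCat.of k)))) ⟨⊤, deg_zero_top (X ↘ Spec (CommRingCat.of k)) (𝟙_ (Over (Spec (CommRingCat.of k))))⟩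
    exact ⟨E, by rw [List.ofFn_zero, List.prod_nil, toJ, sum_zero, MonObj.comp_one]⟩
  | succ n ih =>
    intro x
    obtain ⟨E₀, hE₀⟩ := ih fun i => x i.castSucc
    refine ⟨pair E₀ (x (Fin.last n)) ≫ D.m n, ?_⟩
    rw [Category.assoc, toJ, pair_m_sum D (aj (X ↘ Spec (CommRingCat.of k)) hdim σ hσ ξ hξ huniv) hdim n E₀ (x (Fin.last n)),
      List.ofFn_succ', List.prod_concat, ← hE₀]
    rfl

omit [IsProper J.hom] in
theorem finrank_p₁ (M : X.Modules) (hM : PicF.IsInvertible M) (i : ℕ) :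
    letI : (PicF.XT (X ↘ Spec (CommRingCat.of k)) (𝟙_ (Over (Spec (CommRingCat.of k))))).Over (Spec (CommRingCat.of k)) := ⟨PicF.XTproj (X ↘ Spec (CommRingCat.of k)) (𝟙_ (Over (Spec (CommRingCat.of k))))⟩
    Module.finrank k (Coh.HH (PicF.XT (X ↘ Spec (CommRingCat.of k)) (𝟙_ (Over (Spec (CommRingCat.of k))))) ((Scheme.Modules.pullback (p₁ (X ↘ Spec (CommRingCat.of k)))).obj M) i) =
      Module.finrank k (Coh.HH X M i) := by
  letI : (PicF.XT (X ↘ Spec (CommRingCat.of k)) (𝟙_ (Over (Spec (CommRingCat.of k))))).Over (Spec (CommRingCat.of k)) := ⟨PicF.XTproj (X ↘ Spec (CommRingCat.of k)) (𝟙_ (Over (Spec (CommRingCat.of k))))⟩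
  haveI : CompactSpace X := QuasiCompact.compactSpace_of_compactSpace (X ↘ Spec (CommRingCat.of k))
  haveI : QuasiSeparatedSpace X := quasiSeparatedSpace_of_quasiSeparated (X ↘ Spec (CommRingCat.of k))
  refine CurveBC.finrank_hh k k (p₁ (X ↘ Spec (CommRingCat.of k))) ?_ M (isQCoh_inv hM) i
  have h : Spec.map (CommRingCat.ofHom (algebraMap k k)) = 𝟙 (Spec (CommRingCat.of k)) := by
    rw [show CommRingCat.ofHom (algebraMap k k) = 𝟙 (CommRingCat.of k) from rfl, Spec.map_id]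
  rw [h]
  exact IsPullback.of_hasPullback (X ↘ Spec (CommRingCat.of k)) (𝟙 _)

include hdim hξ huniv in
/-- the sums of n points are the classes with a section -/
theorem mem_Wpts_iff (n : ℕ) (a : (𝟙_ (Over (Spec (CommRingCat.of k)))) ⟶ J) {M : X.Modules} (hM : PicF.IsInvertible M)
    (hcl : PicF.cl M = clN (X ↘ Spec (CommRingCat.of k)) σ hσ ξ n a) :
    a ∈ Wpts hdim σ hσ ξ hξ huniv n ↔ 0 < Module.finrank k (Coh.HH X M 0) := by
  letI := jacGrpObj (X ↘ Spec (CommRingCat.of k)) hdim σ hσ ξ hξ huniv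
  letI : (PicF.XT (X ↘ Spec (CommRingCat.of k)) (𝟙_ (Over (Spec (CommRingCat.of k))))).Over (Spec (CommRingCat.of k)) := ⟨PicF.XTproj (X ↘ Spec (CommRingCat.of k)) (𝟙_ (Over (Spec (CommRingCat.of k))))⟩
  haveI : IsProper (PicF.XT (X ↘ Spec (CommRingCat.of k)) (𝟙_ (Over (Spec (CommRingCat.of k)))) ↘ Spec (CommRingCat.of k)) := isProper_proj (X ↘ Spec (CommRingCat.of k)) (𝟙_ (Over (Spec (CommRingCat.of k))))
  haveI : IsIntegral (PicF.XT (X ↘ Spec (CommRingCat.of k)) (𝟙_ (Over (Spec (CommRingCat.of k))))) := isIntegral_XT (X ↘ Spec (CommRingCat.of k)) (𝟙 _)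
  haveI : Subsingleton ((𝟙_ (Over (Spec (CommRingCat.of k)))) : Over (Spec (CommRingCat.of k))).left := inferInstanceAs (Subsingleton (PrimeSpectrum k))
  haveI : Nonempty ((𝟙_ (Over (Spec (CommRingCat.of k)))) : Over (Spec (CommRingCat.of k))).left := inferInstanceAs (Nonempty (PrimeSpectrum k))
  haveI := CurveCohLib.isNoetherian_of_proper (k := k) (X := PicF.XT (X ↘ Spec (CommRingCat.of k)) (𝟙_ (Over (Spec (CommRingCat.of k)))))
  obtain ⟨D⟩ := nonempty_tower (f := (X ↘ Spec (CommRingCat.of k))) hdim σ hσ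
  let L := (Scheme.Modules.pullback (p₁ (X ↘ Spec (CommRingCat.of k)))).obj M
  have hL : PicF.IsInvertible L := PicClLib.isInvertible_pullback _ hM
  have hLcl : PicF.cl L = PicF.pullCl (PicF.XTmap (X ↘ Spec (CommRingCat.of k)) a) (shCl (X ↘ Spec (CommRingCat.of k)) σ hσ ξ n) := by
    rw [← pull_clN (X ↘ Spec (CommRingCat.of k)) σ hσ ξ n a, ← hcl]
    rfl
  rw [← finrank_p₁ M hM 0, FppfPic.HyperSec.finrank_HH_zero k L]
  letI := FppfPic.HyperSec.secMod k (X := PicF.XT (X ↘ Spec (CommRingCat.of k)) (𝟙_ (Over (Spec (CommRingCat.of k))))) L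
  haveI : Module.Finite k Γ(L, ⊤) :=
    FppfPic.HyperSec.finite_sections k L (CurveCohLib.finite_HH (k := k) (CurveDeg.isCoh_of_isInvertible hL) 0)
  rw [Module.finrank_pos_iff_exists_ne_zero]
  constructor
  · rintro ⟨x, rfl⟩
    obtain ⟨E, hE⟩ := exists_divisor hdim σ hσ ξ hξ huniv D n x
    have hI := (RelCurveDiv.isEffCartier_of_finLocFree _ _ (isFinLocFreeOfDeg_pull (X ↘ Spec (CommRingCat.of k)) E _ (D.Z n).2).1).1
    obtain ⟨L', s', hL', hs'⟩ := exists_line _ hI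
    have hL'cl : PicF.cl L' = PicF.cl L := by
      rw [hLcl, ← hE, pull_shCl_eq_oCl (X ↘ Spec (CommRingCat.of k)) hdim σ hσ ξ hξ huniv D E, oCl]
      refine eq_invCl _ ?_
      have := cl_mul_idl hL' s' (hs'.symm ▸ hI)
      rw [hs'] at this
      exact (_root_.mul_comm _ _).trans this
    obtain ⟨φ⟩ := cl_eq_iff.1 hL'cl
    refine ⟨φ.hom.app ⊤ s', fun h0 => not_isEffCartier_zero hL ?_⟩
    rw [← h0, zeroScheme_map_iso hL' hL φ, hs']
    exact hI
  · rintro ⟨s, hs⟩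
    obtain ⟨E, hE, -⟩ := exists_div_of_section (X ↘ Spec (CommRingCat.of k)) (𝟙 _) hdim σ hσ ξ hξ huniv D a n hL hLcl s hs
    obtain ⟨x, hx⟩ := exists_tuple hdim σ hσ ξ hξ huniv D n E
    exact ⟨x, hE.symm.trans hx⟩

end Groth.Agent.PicCurve.Pts

end
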