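import Groth.Agent.PicCurve.Pts.Div
import Groth.Agent.PicCurve.CurveField
import Groth.Agent.CurveFF.Canonical

/-!
# Dropping the first cohomology at general points
-/

noncomputable section

set_option autoImplicit false
set_option linter.style.haveILetI false
set_option linter.unusedSectionVars false
set_option backward.isDefEq.respectTransparency false
set_option backward.isDefEq.respectTransparency.types false
set_option maxHeartbeats 1000000
set_option synthInstance.maxHeartbeats 400000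
attribute [-instance] CategoryTheory.catToReflQuiver

universe u

open CategoryTheory CategoryTheory.Limits AlgebraicGeometry TopologicalSpace Opposite
  MonoidalCategory CartesianMonoidalCategory
open scoped MonObj
open Groth.Agent.H23.PicMul Groth.Agent.InvX

namespace Groth.Agent.PicCurve.Pts

open HilbDLib Alb

variable {k : Type u} [Field k] [IsAlgClosed k] {X : Scheme.{u}} [X.Over (Spec (CommRingCat.of k))]
  [IsProper (X ↘ Spec (CommRingCat.of k))] [Smooth (X ↘ Spec (CommRingCat.of k))] [IsIntegral X]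
  (hdim : topologicalKrullDim X = 1)

include hdim in
/-- a point dropping the first cohomology by one -/
theorem exists_h1_drop {M : X.Modules} (hM : PicF.IsInvertible M) (h : 0 < Module.finrank k (Coh.HH X M 1)) :
    ∃ (x : 𝟙_ (Over (Spec (CommRingCat.of k))) ⟶ Over.mk (X ↘ Spec (CommRingCat.of k))) (M' : X.Modules),
      PicF.IsInvertible M' ∧ PicF.cl M' * ptCl (X ↘ Spec (CommRingCat.of k)) x = PicF.cl M ∧
      Module.finrank k (Coh.HH X M' 1) + 1 = Module.finrank k (Coh.HH X M 1) ∧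
      Module.finrank k (Coh.HH X M' 0) = Module.finrank k (Coh.HH X M 0) := by
  let f := X ↘ Spec (CommRingCat.of k)
  haveI : IsProper f := ‹_›
  obtain ⟨D, hD, ⟨e⟩⟩ := H23.PicInv.exists_inverse hM
  have hΩ := CurveFF.isInvertible_Ωm k X hdim
  let N := CohB1.tensorMod (CurveFF.Ωm k X) D
  have hN : PicF.IsInvertible N := InvX.isInvertible_tensorMod hΩ hD
  have h1 : Module.finrank k (Coh.HH X M 1) = Module.finrank k (Coh.HH X N 0) :=
    CurveFF.finrank_h1_eq k hdim hM e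
  obtain ⟨p, hp, -, hdrop⟩ := CurveField.exists_drop k hdim hN (by omega) (P := closedPoints X) (fun p hp => hp)
    (HilbCurve.closedPoints_infinite f hdim)
  let s := (pointEquivClosedPoint f).symm ⟨p, hp⟩
  have hs : s.1 (IsLocalRing.closedPoint k) = p :=
    congrArg Subtype.val ((pointEquivClosedPoint f).apply_symm_apply ⟨p, hp⟩)
  let x : 𝟙_ (Over (Spec (CommRingCat.of k))) ⟶ Over.mk f := Over.homMk s.1 s.2
  have hker : x.left.ker = CurvePoint.ptIdeal p hp := by
    haveI : IsClosedImmersion (s.1 ≫ f) := by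
      rw [show s.1 ≫ f = 𝟙 _ from s.2]; infer_instance
    haveI : IsClosedImmersion s.1 := IsClosedImmersion.of_comp s.1 f
    refine CanonDual.ker_eq_vanishingIdeal s.1 (Set.ext fun q => ⟨?_, ?_⟩)
    · rintro ⟨t, rfl⟩
      rw [@Subsingleton.elim (Spec (CommRingCat.of k)) (inferInstanceAs (Subsingleton (PrimeSpectrum k))) t
        (IsLocalRing.closedPoint k), hs]
      rfl
    · intro hq
      exact ⟨IsLocalRing.closedPoint k, hs.trans (Set.mem_singleton_iff.1 hq).symm⟩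
  let I := CurvePoint.ptMod p hp
  have hI : PicF.IsInvertible I := CurvePoint.isInvertible_ptMod p hp k hdim
  obtain ⟨J, hJ, ⟨eJ⟩⟩ := H23.PicInv.exists_inverse hI
  have eJ' : PicF.cl I * PicF.cl J = 1 := cl_eq_iff.2 ⟨eJ⟩
  have e' : PicF.cl M * PicF.cl D = 1 := cl_eq_iff.2 ⟨e⟩
  let M' := CohB1.tensorMod M J
  have hM' : PicF.IsInvertible M' := InvX.isInvertible_tensorMod hM hJ
  have hclM' : PicF.cl M' = PicF.cl M * PicF.cl J := cl_tensor _ _
  let D' := CohB1.tensorMod D I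
  have hD' : PicF.IsInvertible D' := InvX.isInvertible_tensorMod hD hI
  obtain ⟨u⟩ : Nonempty ((DCoh.tensorBi.obj M').obj D' ≅ Coh.structureModule X) := cl_eq_iff.1 (by
    show PicF.cl M' * PicF.cl D' = 1
    rw [hclM', show PicF.cl D' = PicF.cl D * PicF.cl I from cl_tensor _ _, mul_mul_mul_comm, e',
      mul_comm (PicF.cl J), eJ', _root_.one_mul])
  have h1' := CurveFF.finrank_h1_eq k hdim hM' u
  obtain ⟨v⟩ : Nonempty (CohB1.tensorMod (CurveFF.Ωm k X) D' ≅ (DCoh.tensorBi.obj N).obj I) := cl_eq_iff.1 (by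
    rw [cl_tensor, show PicF.cl D' = PicF.cl D * PicF.cl I from cl_tensor _ _,
      show PicF.cl ((DCoh.tensorBi.obj N).obj I) = PicF.cl N * PicF.cl I from rfl,
      show PicF.cl N = _ * _ from cl_tensor _ _, _root_.mul_assoc])
  rw [(CurveCohLib.hhEquiv (k := k) v 0).finrank_eq] at h1'
  have hI' : PicF.cl M' * PicF.cl I = PicF.cl M := by
    rw [hclM', _root_.mul_assoc, mul_comm (PicF.cl J), eJ', _root_.mul_one]
  have hdrop' : Module.finrank k (Coh.HH X ((DCoh.tensorBi.obj N).obj I) 0) + 1 =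
      Module.finrank k (Coh.HH X N 0) := hdrop
  refine ⟨x, M', hM', by rw [ptCl, hker]; exact hI', by omega, ?_⟩
  have hχ := CurveField.euler_twist_pt k hdim hM' p hp
  obtain ⟨w⟩ : Nonempty ((DCoh.tensorBi.obj M').obj I ≅ M) := cl_eq_iff.1 hI'
  rw [CurveCohLib.euler_congr (k := k) w, CurveRR.euler_eq_h0_sub_h1 k hdim.le (isQCoh_inv hM),
    CurveRR.euler_eq_h0_sub_h1 k hdim.le (isQCoh_inv hM')] at hχ
  omega

section

variable [SmoothOfRelativeDimension 1 (X ↘ Spec (CommRingCat.of k))]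
  [GeometricallyIntegral (X ↘ Spec (CommRingCat.of k))] (σ : Spec (CommRingCat.of k) ⟶ X)
  (hσ : σ ≫ (X ↘ Spec (CommRingCat.of k)) = 𝟙 _)
  {J : Over (Spec (CommRingCat.of k))} (ξ : PicF.Rig (X ↘ Spec (CommRingCat.of k)) σ hσ J)
  (hξ : FGA.HasFibreDegreeZeroCl (X ↘ Spec (CommRingCat.of k)) J ξ.1)
  (huniv : ∀ (T : Over (Spec (CommRingCat.of k))) (c : PicF.Rig (X ↘ Spec (CommRingCat.of k)) σ hσ T),
    FGA.HasFibreDegreeZeroCl (X ↘ Spec (CommRingCat.of k)) T c.1 →
    ∃! g : T ⟶ J, PicF.pullCl (PicF.XTmap (X ↘ Spec (CommRingCat.of k)) g) ξ.1 = c.1)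
  [IsProper J.hom]

include hdim hξ huniv in
theorem exists_outside_step {n : ℕ} (hn : n + 2 ≤ Curv2.genus k X) {a : 𝟙_ (Over (Spec (CommRingCat.of k))) ⟶ J}
    (ha : a ∉ Wpts hdim σ hσ ξ hξ huniv n) :
    letI := jacGrpObj (X ↘ Spec (CommRingCat.of k)) hdim σ hσ ξ hξ huniv
    ∃ x : 𝟙_ (Over (Spec (CommRingCat.of k))) ⟶ Over.mk (X ↘ Spec (CommRingCat.of k)),
      a * (x ≫ aj (X ↘ Spec (CommRingCat.of k)) hdim σ hσ ξ hξ huniv) ∉ Wpts hdim σ hσ ξ hξ huniv (n + 1) := by
  let f := X ↘ Spec (CommRingCat.of k)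
  letI := jacGrpObj f hdim σ hσ ξ hξ huniv
  obtain ⟨M, hMcl, hM⟩ := isInvertibleCl_clN f σ hσ ξ n a
  rw [mem_Wpts_iff hdim σ hσ ξ hξ huniv n a hM hMcl] at ha
  have hd := degX_cl (k := k) hdim.le hM
  rw [hMcl, degX_clN f hdim σ hσ ξ hξ, CurveCohLib.Clifford.deg_eq k hdim hM] at hd
  have hh1 : 0 < Module.finrank k (Coh.HH X M 1) := by omega
  obtain ⟨x, M', hM', hcl, -, h0⟩ := exists_h1_drop (k := k) hdim hM hh1
  refine ⟨x, ?_⟩
  have hcl' : PicF.cl M' = clN f σ hσ ξ (n + 1) (a * (x ≫ aj f hdim σ hσ ξ hξ huniv)) := by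
    refine eq_of_invCl_mul (isInvertibleCl_mul (isInvertibleCl_ptCl f x)
      (isInvertibleCl_pow (isInvertibleCl_δ f σ hσ) (n + 1))) ?_
    rw [mul_left_comm (clN f σ hσ ξ (n + 1) _), clN_mul_pow, A_mul f hdim σ hσ ξ hξ huniv,
      ← _root_.mul_assoc (PicF.cl M'), hcl, hMcl, pow_succ, ← _root_.mul_assoc (clN f σ hσ ξ n a), clN_mul_pow,
      mul_left_comm, _root_.mul_comm (ptCl f x), A_aj f hdim σ hσ ξ hξ huniv]
  rw [mem_Wpts_iff hdim σ hσ ξ hξ huniv (n + 1) _ hM' hcl', h0]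
  exact ha

include hdim hξ huniv in
/-- outside the sums of n points some translate by r points stays outside -/
theorem exists_outside (r : ℕ) : ∀ {n : ℕ}, n + r + 1 ≤ Curv2.genus k X →
    ∀ {a : 𝟙_ (Over (Spec (CommRingCat.of k))) ⟶ J}, a ∉ Wpts hdim σ hσ ξ hξ huniv n →
    letI := jacGrpObj (X ↘ Spec (CommRingCat.of k)) hdim σ hσ ξ hξ huniv
    ∃ b ∈ Wpts hdim σ hσ ξ hξ huniv r, a * b ∉ Wpts hdim σ hσ ξ hξ huniv (n + r) := by
  letI := jacGrpObj (X ↘ Spec (CommRingCat.of k)) hdim σ hσ ξ hξ huniv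
  induction r with
  | zero =>
    intro n _ a ha
    exact ⟨1, ⟨Fin.elim0, by simp⟩, by rwa [_root_.mul_one]⟩
  | succ r ih =>
    intro n hn a ha
    obtain ⟨b, ⟨y, rfl⟩, hb⟩ := ih (n := n) (by omega) ha
    obtain ⟨x, hx⟩ := exists_outside_step hdim σ hσ ξ hξ huniv (n := n + r) (by omega) hb
    refine ⟨_, ⟨Fin.snoc y x, rfl⟩, ?_⟩
    rw [List.ofFn_succ', List.prod_concat]
    simp only [Fin.snoc_castSucc, Fin.snoc_last]
    rw [← _root_.mul_assoc]
    exact hx

end

end Groth.Agent.PicCurve.Pts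

end
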