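import Groth.Agent.PicCurve.Pts.Main
import Groth.Agent.CurveCohLib.PointTwist
import Groth.Prelude.Def_FGA

/-!
# Opens of products of the curve where a divisor moves in no pencil
-/

noncomputable section

set_option autoImplicit false
set_option linter.style.haveILetI false
set_option linter.unusedSectionVars false
set_option backward.isDefEq.respectTransparency false
set_option backward.isDefEq.respectTransparency.types false
set_option maxHeartbeats 1000000
attribute [-instance] CategoryTheory.catToReflQuiver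

universe u

open CategoryTheory CategoryTheory.Limits AlgebraicGeometry TopologicalSpace
  MonoidalCategory CartesianMonoidalCategory
open scoped MonObj
open Groth.Agent.H23.PicMul

namespace Groth.Agent.PicCurve.Pts

open Alb HilbDLib

theorem cl_tensorList_ofFn {Y : Scheme.{u}} : ∀ (n : ℕ) (L : Fin n → Y.Modules),
    PicF.cl (FGA.tensorList (List.ofFn L)) = (List.ofFn fun i => PicF.cl (L i)).prod
  | 0, L => by
    rw [List.ofFn_zero, List.ofFn_zero, List.prod_nil]
    exact H23.PicMul.one_def.symm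
  | n + 1, L => by
    rw [List.ofFn_succ, List.ofFn_succ, List.prod_cons, ← cl_tensorList_ofFn n]
    exact cl_tensor _ _

theorem isInvertibleCl_prod_pt {k : Type u} [Field k] {X : Scheme.{u}} (f : X ⟶ Spec (CommRingCat.of k))
    [IsProper f] [Smooth f] [SmoothOfRelativeDimension 1 f] [GeometricallyIntegral f] [IsIntegral X] :
    ∀ (n : ℕ) (x : Fin n → (𝟙_ (Over (Spec (CommRingCat.of k))) ⟶ Over.mk f)),
    PicF.IsInvertibleCl (List.ofFn fun i => ptCl f (x i)).prod
  | 0, x => by rw [List.ofFn_zero, List.prod_nil]; exact Alb.isInvertibleCl_one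
  | n + 1, x => by
    rw [List.ofFn_succ, List.prod_cons]
    exact isInvertibleCl_mul (isInvertibleCl_ptCl f (x 0)) (isInvertibleCl_prod_pt f n fun i => x i.succ)

variable {k : Type u} [Field k] [IsAlgClosed k] {X : Scheme.{u}} [X.Over (Spec (CommRingCat.of k))]
  [IsProper (X ↘ Spec (CommRingCat.of k))] [Smooth (X ↘ Spec (CommRingCat.of k))] [IsIntegral X]
  (hdim : topologicalKrullDim X = 1)

include hdim in
/-- twisting down by a point does not increase the sections -/
theorem h0_mono (x : 𝟙_ (Over (Spec (CommRingCat.of k))) ⟶ Over.mk (X ↘ Spec (CommRingCat.of k)))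
    {M N : X.Modules} (hN : PicF.IsInvertible N)
    (h : PicF.cl N * ptCl (X ↘ Spec (CommRingCat.of k)) x = PicF.cl M) :
    Module.finrank k (Coh.HH X M 0) ≤ Module.finrank k (Coh.HH X N 0) := by
  let f := X ↘ Spec (CommRingCat.of k)
  haveI : IsProper f := ‹_›
  let p : X := x.left (show Spec (CommRingCat.of k) from IsLocalRing.closedPoint k)
  have hp : IsClosed ({p} : Set X) := (pointEquivClosedPoint f ⟨x.left, Over.w x⟩).2
  have hker : x.left.ker = CurvePoint.ptIdeal p hp := by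
    haveI : IsClosedImmersion (x.left ≫ f) := by
      rw [show x.left ≫ f = 𝟙 _ from Over.w x]; infer_instance
    haveI : IsClosedImmersion x.left := IsClosedImmersion.of_comp x.left f
    haveI : Subsingleton (𝟙_ (Over (Spec (CommRingCat.of k)))).left := inferInstanceAs (Subsingleton (PrimeSpectrum k))
    haveI : IsReduced (𝟙_ (Over (Spec (CommRingCat.of k)))).left := inferInstanceAs (IsReduced (Spec (CommRingCat.of k)))
    refine CanonDual.ker_eq_vanishingIdeal x.left (Set.ext fun q => ⟨?_, ?_⟩)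
    · rintro ⟨t, rfl⟩
      rw [Subsingleton.elim t (show Spec (CommRingCat.of k) from IsLocalRing.closedPoint k)]
      rfl
    · intro hq
      exact ⟨_, (Set.mem_singleton_iff.1 hq).symm⟩
  haveI := CurveCohLib.isNoetherian_of_proper (k := k) (X := X)
  haveI : Module.Finite k (Coh.HH X N 0) := CurveCohLib.finite_HH (k := k) (CurveDeg.isCoh_of_isInvertible hN) 0
  obtain ⟨w⟩ : Nonempty ((DCoh.tensorBi.obj N).obj (CurvePoint.ptMod p hp) ≅ M) := cl_eq_iff.1 (by
    rw [← h, ptCl, hker]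
    rfl)
  have hS := CurveTensor.shortExact_tensor (CurveStable.isFinLocFree_of_rank (InvEnd.isFinLocFreeOfRank_one hN)) _ _ _
    (CurvePoint.shortExact_pt p hp)
  let e₁ := CurveCohLib.hhEquiv (k := k) (KFlatLib.tensorUnitIso N) 0
  let e₂ := (CurveCohLib.hhEquiv (k := k) w 0).symm
  refine LinearMap.finrank_le_finrank_of_injective (f := (e₁.toLinearMap.comp
    (PnCoh.Finite.mapLin k ((DCoh.tensorBi.obj N).map (ClSub.idealModι (CurvePoint.ptIdeal p hp))) 0)).comp
    e₂.toLinearMap) ?_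
  exact (e₁.injective.comp (CurveCohLib.mapLin_f_zero_injective k hS)).comp e₂.injective

section

variable [SmoothOfRelativeDimension 1 (X ↘ Spec (CommRingCat.of k))]
  [GeometricallyIntegral (X ↘ Spec (CommRingCat.of k))] (σ : Spec (CommRingCat.of k) ⟶ X)
  (hσ : σ ≫ (X ↘ Spec (CommRingCat.of k)) = 𝟙 _)
  {J : Over (Spec (CommRingCat.of k))} (ξ : PicF.Rig (X ↘ Spec (CommRingCat.of k)) σ hσ J)
  (hξ : FGA.HasFibreDegreeZeroCl (X ↘ Spec (CommRingCat.of k)) J ξ.1)
  (huniv : ∀ (T : Over (Spec (CommRingCat.of k))) (c : PicF.Rig (X ↘ Spec (CommRingCat.of k)) σ hσ T),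
    FGA.HasFibreDegreeZeroCl (X ↘ Spec (CommRingCat.of k)) T c.1 →
    ∃! g : T ⟶ J, PicF.pullCl (PicF.XTmap (X ↘ Spec (CommRingCat.of k)) g) ξ.1 = c.1)
  [IsProper J.hom]

include hdim in
/-- good points have exactly one section -/
theorem h0_eq_one_of_good (a : 𝟙_ (Over (Spec (CommRingCat.of k))) ⟶ J)
    (ha : pt a ∈ goodU (X ↘ Spec (CommRingCat.of k)) σ hσ ξ) {M : X.Modules} (hM : PicF.IsInvertible M)
    (hcl : PicF.cl M = clN (X ↘ Spec (CommRingCat.of k)) σ hσ ξ (gen (X ↘ Spec (CommRingCat.of k))) a) :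
    Module.finrank k (Coh.HH X M 0) = 1 := by
  let f := X ↘ Spec (CommRingCat.of k)
  letI : (PicF.XT f (𝟙_ (Over (Spec (CommRingCat.of k))))).Over (Spec (CommRingCat.of k)) :=
    ⟨PicF.XTproj f (𝟙_ (Over (Spec (CommRingCat.of k))))⟩
  haveI : IsProper (PicF.XT f (𝟙_ (Over (Spec (CommRingCat.of k)))) ↘ Spec (CommRingCat.of k)) := isProper_proj f _
  let L := (Scheme.Modules.pullback (p₁ f)).obj M
  have hL : PicF.IsInvertible L := PicClLib.isInvertible_pullback _ hM
  have hLcl : PicF.cl L = PicF.pullCl (PicF.XTmap f a) (shCl f σ hσ ξ (gen f)) := by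
    rw [← pull_clN f σ hσ ξ (gen f) a, ← hcl]
    rfl
  let z : (𝟙_ (Over (Spec (CommRingCat.of k)))).left := show Spec (CommRingCat.of k) from IsLocalRing.closedPoint k
  have h1 : GoodCl f (PicF.pullCl (PicF.XTmap f a) (shCl f σ hσ ξ (gen f))) z :=
    (goodCl_pull f a (isInvertibleCl_shCl f σ hσ ξ (gen f)) z).2 ha
  rw [← hLcl, goodCl_cl f hL] at h1
  rw [← finrank_p₁ (k := k) M hM 0]
  let q : PicF.XT f (𝟙_ (Over (Spec (CommRingCat.of k)))) ⟶ Spec (CommRingCat.of k) :=
    PicF.XTproj f (𝟙_ (Over (Spec (CommRingCat.of k))))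
  haveI : IsProper q := isProper_proj f _
  have h2 : CohIII.fiberRank q L 0 (show Spec (CommRingCat.of k) from IsLocalRing.closedPoint k) = 1 := h1.1
  rw [QuotRep.fiberRank_field q (isQCoh_inv hL)] at h2
  exact h2

include hdim hξ huniv in
theorem clN_mul_aj (n : ℕ) (a : 𝟙_ (Over (Spec (CommRingCat.of k))) ⟶ J)
    (x : 𝟙_ (Over (Spec (CommRingCat.of k))) ⟶ Over.mk (X ↘ Spec (CommRingCat.of k))) :
    letI := jacGrpObj (X ↘ Spec (CommRingCat.of k)) hdim σ hσ ξ hξ huniv
    clN (X ↘ Spec (CommRingCat.of k)) σ hσ ξ (n + 1)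
        (a * (x ≫ aj (X ↘ Spec (CommRingCat.of k)) hdim σ hσ ξ hξ huniv)) * ptCl (X ↘ Spec (CommRingCat.of k)) x =
      clN (X ↘ Spec (CommRingCat.of k)) σ hσ ξ n a := by
  let f := X ↘ Spec (CommRingCat.of k)
  letI := jacGrpObj f hdim σ hσ ξ hξ huniv
  refine eq_of_invCl_mul (isInvertibleCl_pow (isInvertibleCl_δ f σ hσ) (n + 1)) ?_
  rw [mul_right_comm, clN_mul_pow, A_mul f hdim σ hσ ξ hξ huniv, _root_.mul_assoc,
    A_aj f hdim σ hσ ξ hξ huniv, pow_succ, ← _root_.mul_assoc, clN_mul_pow]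

include hdim hξ huniv in
theorem clN_mul_prod : ∀ (m n : ℕ) (a : 𝟙_ (Over (Spec (CommRingCat.of k))) ⟶ J)
    (x : Fin m → (𝟙_ (Over (Spec (CommRingCat.of k))) ⟶ Over.mk (X ↘ Spec (CommRingCat.of k)))),
    letI := jacGrpObj (X ↘ Spec (CommRingCat.of k)) hdim σ hσ ξ hξ huniv
    clN (X ↘ Spec (CommRingCat.of k)) σ hσ ξ (n + m)
        (a * (List.ofFn fun i => x i ≫ aj (X ↘ Spec (CommRingCat.of k)) hdim σ hσ ξ hξ huniv).prod) *
          (List.ofFn fun i => ptCl (X ↘ Spec (CommRingCat.of k)) (x i)).prod =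
      clN (X ↘ Spec (CommRingCat.of k)) σ hσ ξ n a := by
  let f := X ↘ Spec (CommRingCat.of k)
  letI := jacGrpObj f hdim σ hσ ξ hξ huniv
  intro m
  induction m with
  | zero => intro n a x; simp
  | succ m ih =>
    intro n a x
    rw [List.ofFn_succ', List.ofFn_succ', List.prod_concat, List.prod_concat, ← _root_.mul_assoc a,
      show n + (m + 1) = n + m + 1 from rfl, mul_left_comm _ (List.prod _) _,
      clN_mul_aj hdim σ hσ ξ hξ huniv (n + m) _ (x (Fin.last m)), _root_.mul_comm]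
    exact ih n a fun i => x i.castSucc

include hdim hξ huniv in
theorem h0_clN_le : ∀ (m n : ℕ) (a : 𝟙_ (Over (Spec (CommRingCat.of k))) ⟶ J)
    (x : Fin m → (𝟙_ (Over (Spec (CommRingCat.of k))) ⟶ Over.mk (X ↘ Spec (CommRingCat.of k)))) (M N : X.Modules),
    letI := jacGrpObj (X ↘ Spec (CommRingCat.of k)) hdim σ hσ ξ hξ huniv
    PicF.IsInvertible M → PicF.IsInvertible N → PicF.cl M = clN (X ↘ Spec (CommRingCat.of k)) σ hσ ξ n a →
    PicF.cl N = clN (X ↘ Spec (CommRingCat.of k)) σ hσ ξ (n + m)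
        (a * (List.ofFn fun i => x i ≫ aj (X ↘ Spec (CommRingCat.of k)) hdim σ hσ ξ hξ huniv).prod) →
    Module.finrank k (Coh.HH X M 0) ≤ Module.finrank k (Coh.HH X N 0) := by
  let f := X ↘ Spec (CommRingCat.of k)
  letI := jacGrpObj f hdim σ hσ ξ hξ huniv
  intro m
  induction m with
  | zero =>
    intro n a x M N _ _ hM hN
    rw [List.ofFn_zero, List.prod_nil, _root_.mul_one] at hN
    obtain ⟨e⟩ := cl_eq_iff.1 (hM.trans hN.symm)
    exact (CurveCohLib.hhEquiv (k := k) e 0).finrank_eq.le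
  | succ m ih =>
    intro n a x M N hM hN hMcl hNcl
    rw [List.ofFn_succ', List.prod_concat, ← _root_.mul_assoc a] at hNcl
    obtain ⟨N', hN'cl, hN'⟩ := isInvertibleCl_clN f σ hσ ξ (n + m)
      (a * (List.ofFn fun i => x i.castSucc ≫ aj f hdim σ hσ ξ hξ huniv).prod)
    refine (ih n a (fun i => x i.castSucc) M N' hM hN' hMcl hN'cl).trans ?_
    refine h0_mono hdim (x (Fin.last m)) hN ?_
    rw [hN'cl, hNcl]
    exact clN_mul_aj hdim σ hσ ξ hξ huniv (n + m) _ (x (Fin.last m))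

include hdim hξ huniv in
/-- a divisor completing to a good one moves in no pencil -/
theorem h0_eq_one_of_completion {r m : ℕ} (hrm : r + m = gen (X ↘ Spec (CommRingCat.of k)))
    (x : Fin r → (𝟙_ (Over (Spec (CommRingCat.of k))) ⟶ Over.mk (X ↘ Spec (CommRingCat.of k))))
    (y : Fin m → (𝟙_ (Over (Spec (CommRingCat.of k))) ⟶ Over.mk (X ↘ Spec (CommRingCat.of k))))
    (h : letI := jacGrpObj (X ↘ Spec (CommRingCat.of k)) hdim σ hσ ξ hξ huniv
      pt ((List.ofFn fun i => x i ≫ aj (X ↘ Spec (CommRingCat.of k)) hdim σ hσ ξ hξ huniv).prod *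
        (List.ofFn fun i => y i ≫ aj (X ↘ Spec (CommRingCat.of k)) hdim σ hσ ξ hξ huniv).prod) ∈
        goodU (X ↘ Spec (CommRingCat.of k)) σ hσ ξ)
    {M : X.Modules} (hM : PicF.IsInvertible M)
    (hcl : PicF.cl M * (List.ofFn fun i => ptCl (X ↘ Spec (CommRingCat.of k)) (x i)).prod = 1) :
    Module.finrank k (Coh.HH X M 0) = 1 := by
  let f := X ↘ Spec (CommRingCat.of k)
  letI := jacGrpObj f hdim σ hσ ξ hξ huniv
  let a := (List.ofFn fun i => x i ≫ aj f hdim σ hσ ξ hξ huniv).prod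
  have h0 := clN_mul_prod hdim σ hσ ξ hξ huniv r 0 1 x
  rw [_root_.one_mul, zero_add] at h0
  have h1 : clN f σ hσ ξ 0 1 = 1 := by
    have := clN_mul_pow f σ hσ ξ 0 (1 : 𝟙_ (Over (Spec (CommRingCat.of k))) ⟶ J)
    rwa [pow_zero, _root_.mul_one, A_one f hdim σ hσ ξ hξ huniv] at this
  have hMcl : PicF.cl M = clN f σ hσ ξ r a := by
    refine (eq_invCl (a := (List.ofFn fun i => ptCl f (x i)).prod) ?_ ?_).trans
      (eq_invCl (a := (List.ofFn fun i => ptCl f (x i)).prod) ?_ ?_).symm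
    · exact isInvertibleCl_prod_pt f r x
    · rw [_root_.mul_comm]; exact hcl
    · exact isInvertibleCl_prod_pt f r x
    · rw [_root_.mul_comm, h0, h1]
  refine le_antisymm ?_ ((mem_Wpts_iff hdim σ hσ ξ hξ huniv r a hM hMcl).1 ⟨x, rfl⟩)
  obtain ⟨N, hNcl, hN⟩ := isInvertibleCl_clN f σ hσ ξ (gen f)
    (a * (List.ofFn fun i => y i ≫ aj f hdim σ hσ ξ hξ huniv).prod)
  rw [← h0_eq_one_of_good hdim σ hσ ξ _ h hN hNcl]
  exact h0_clN_le hdim σ hσ ξ hξ huniv m r a y M N hM hN hMcl (by rw [hrm]; exact hNcl)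

include hdim hξ huniv in
/-- some sum of genus many points is good -/
theorem exists_good_tuple :
    letI := jacGrpObj (X ↘ Spec (CommRingCat.of k)) hdim σ hσ ξ hξ huniv
    ∃ c : Fin (gen (X ↘ Spec (CommRingCat.of k))) → (𝟙_ (Over (Spec (CommRingCat.of k))) ⟶ Over.mk (X ↘ Spec (CommRingCat.of k))),
      pt ((List.ofFn fun i => c i ≫ aj (X ↘ Spec (CommRingCat.of k)) hdim σ hσ ξ hξ huniv).prod) ∈
        goodU (X ↘ Spec (CommRingCat.of k)) σ hσ ξ := by
  let f := X ↘ Spec (CommRingCat.of k)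
  letI := jacGrpObj f hdim σ hσ ξ hξ huniv
  obtain ⟨D⟩ := nonempty_tower (f := f) hdim σ hσ
  obtain ⟨c, hc⟩ := exists_good_point f (𝟙 _) hdim σ hσ ξ hξ huniv
  obtain ⟨E, hE⟩ := exists_div f (𝟙 _) hdim σ hσ ξ hξ huniv D c
  obtain ⟨x, hx⟩ := exists_tuple hdim σ hσ ξ hξ huniv D (gen f) E
  exact ⟨x, by rw [← hx, hE]; exact hc _⟩

include hdim hξ huniv in
/-- a class with the divisor equation of a good sum has exactly one section -/
theorem h0_eq_one_of_equation (a : 𝟙_ (Over (Spec (CommRingCat.of k))) ⟶ J)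
    (ha : pt a ∈ goodU (X ↘ Spec (CommRingCat.of k)) σ hσ ξ) {M : X.Modules} (hM : PicF.IsInvertible M)
    (u : PicF.Cl X) (hu : PicF.IsInvertibleCl u)
    (h : PicF.cl M * δ σ ^ gen (X ↘ Spec (CommRingCat.of k)) * u = A (X ↘ Spec (CommRingCat.of k)) σ hσ ξ a * u) :
    Module.finrank k (Coh.HH X M 0) = 1 :=
  h0_eq_one_of_good hdim σ hσ ξ a ha hM (eq_of_invCl_mul
    (isInvertibleCl_pow (isInvertibleCl_δ (X ↘ Spec (CommRingCat.of k)) σ hσ) _)
    (by rw [clN_mul_pow]; exact eq_of_invCl_mul hu h))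

include hdim hξ huniv in
theorem A_prod : ∀ (n : ℕ) (x : Fin n → (𝟙_ (Over (Spec (CommRingCat.of k))) ⟶ Over.mk (X ↘ Spec (CommRingCat.of k)))),
    letI := jacGrpObj (X ↘ Spec (CommRingCat.of k)) hdim σ hσ ξ hξ huniv
    A (X ↘ Spec (CommRingCat.of k)) σ hσ ξ
        (List.ofFn fun i => x i ≫ aj (X ↘ Spec (CommRingCat.of k)) hdim σ hσ ξ hξ huniv).prod *
      (List.ofFn fun i => ptCl (X ↘ Spec (CommRingCat.of k)) (x i)).prod = δ σ ^ n := by
  let f := X ↘ Spec (CommRingCat.of k)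
  letI := jacGrpObj f hdim σ hσ ξ hξ huniv
  intro n
  induction n with
  | zero =>
    intro x
    rw [List.ofFn_zero, List.ofFn_zero, List.prod_nil, List.prod_nil, _root_.mul_one, pow_zero]
    exact A_one f hdim σ hσ ξ hξ huniv
  | succ n ih =>
    intro x
    rw [List.ofFn_succ', List.ofFn_succ', List.prod_concat, List.prod_concat, A_mul f hdim σ hσ ξ hξ huniv,
      mul_mul_mul_comm, ih fun i => x i.castSucc, A_aj f hdim σ hσ ξ hξ huniv, pow_succ]

end

theorem prod_ofFn_split {M : Type*} [Monoid M] {n m l : ℕ} (h : l = n + m) (F : Fin l → M) :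
    (List.ofFn F).prod = (List.ofFn fun i : Fin n => F (Fin.cast h.symm (Fin.castAdd m i))).prod *
      (List.ofFn fun i : Fin m => F (Fin.cast h.symm (Fin.natAdd n i))).prod := by
  subst h
  rw [← List.prod_append, ← List.ofFn_fin_append]
  congr 2
  funext i
  refine Fin.addCases (fun l => ?_) (fun l => ?_) i <;> simp

end Groth.Agent.PicCurve.Pts

end
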