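import Groth.Agent.PicCurve.Pts.Generic

/-!
# First cohomology of twists by points
-/

noncomputable section

set_option autoImplicit false
set_option linter.style.haveILetI false
set_option linter.unusedSectionVars false
set_option backward.isDefEq.respectTransparency false
set_option backward.isDefEq.respectTransparency.types false
set_option maxHeartbeats 1000000
attribute [-instance] CategoryTheory.catToReflQuiver

universe u

open CategoryTheory CategoryTheory.Limits AlgebraicGeometry TopologicalSpace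
  MonoidalCategory CartesianMonoidalCategory
open scoped MonObj
open Groth.Agent.H23.PicMul

namespace Groth.Agent.PicCurve.Pts

open Alb HilbDLib

variable (k : Type u) [Field k] [IsAlgClosed k] {X : Scheme.{u}} [X.Over (Spec (CommRingCat.of k))]
  [IsProper (X ↘ Spec (CommRingCat.of k))] [Smooth (X ↘ Spec (CommRingCat.of k))] [IsIntegral X]
  (hdim : topologicalKrullDim X = 1)

include hdim in
theorem finrank_h1_twist {M L D : X.Modules} (hM : PicF.IsInvertible M) (hL : PicF.IsInvertible L)
    (hD : (DCoh.tensorBi.obj L).obj D ≅ Coh.structureModule X) (hDi : PicF.IsInvertible D)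
    (p : X) (hp : IsClosed ({p} : Set X)) (h : PicF.cl M * PicF.cl (CurvePoint.ptMod p hp) = PicF.cl L) :
    Module.finrank k (Coh.HH X M 1) =
        Module.finrank k (Coh.HH X ((DCoh.tensorBi.obj (CohB1.tensorMod (CurveFF.Ωm k X) D)).obj (CurvePoint.ptMod p hp)) 0) ∧
      Module.finrank k (Coh.HH X L 1) = Module.finrank k (Coh.HH X (CohB1.tensorMod (CurveFF.Ωm k X) D) 0) := by
  let I := CurvePoint.ptMod p hp
  have hI : PicF.IsInvertible I := CurvePoint.isInvertible_ptMod p hp k hdim
  let D' := CohB1.tensorMod D I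
  have e : PicF.cl L * PicF.cl D = 1 := cl_eq_iff.2 ⟨hD⟩
  obtain ⟨u⟩ : Nonempty ((DCoh.tensorBi.obj M).obj D' ≅ Coh.structureModule X) := cl_eq_iff.1 (by
    show PicF.cl M * PicF.cl D' = 1
    rw [show PicF.cl D' = PicF.cl D * PicF.cl I from cl_tensor _ _, mul_comm (PicF.cl D), ← _root_.mul_assoc, h, e])
  refine ⟨?_, CurveFF.finrank_h1_eq k hdim hL hD⟩
  obtain ⟨v⟩ : Nonempty (CohB1.tensorMod (CurveFF.Ωm k X) D' ≅
      (DCoh.tensorBi.obj (CohB1.tensorMod (CurveFF.Ωm k X) D)).obj I) := cl_eq_iff.1 (by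
    rw [cl_tensor, show PicF.cl D' = PicF.cl D * PicF.cl I from cl_tensor _ _,
      show PicF.cl ((DCoh.tensorBi.obj (CohB1.tensorMod (CurveFF.Ωm k X) D)).obj I) =
        PicF.cl (CohB1.tensorMod (CurveFF.Ωm k X) D) * PicF.cl I from rfl, cl_tensor, _root_.mul_assoc])
  rw [CurveFF.finrank_h1_eq k hdim hM u, (CurveCohLib.hhEquiv (k := k) v 0).finrank_eq]

include hdim in
/-- adding a point keeps the first cohomology or lowers it by one -/
theorem h1_twist_cases {M L : X.Modules} (hM : PicF.IsInvertible M) (hL : PicF.IsInvertible L)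
    (x : 𝟙_ (Over (Spec (CommRingCat.of k))) ⟶ Over.mk (X ↘ Spec (CommRingCat.of k)))
    (p : X) (hp : IsClosed ({p} : Set X)) (hker : x.left.ker = CurvePoint.ptIdeal p hp)
    (h : PicF.cl M * PicF.cl (CurvePoint.ptMod p hp) = PicF.cl L) :
    Module.finrank k (Coh.HH X M 1) = Module.finrank k (Coh.HH X L 1) ∨
      Module.finrank k (Coh.HH X M 1) + 1 = Module.finrank k (Coh.HH X L 1) := by
  obtain ⟨D, hD, ⟨e⟩⟩ := H23.PicInv.exists_inverse hL
  obtain ⟨h1, h2⟩ := finrank_h1_twist k hdim hM hL e hD p hp h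
  have hN : PicF.IsInvertible (CohB1.tensorMod (CurveFF.Ωm k X) D) :=
    InvX.isInvertible_tensorMod (CurveFF.isInvertible_Ωm k X hdim) hD
  have hle := CurveCohLib.PointTwist.h0_le k hN p hp
  have hge := h0_mono hdim x (M := (DCoh.tensorBi.obj (CohB1.tensorMod (CurveFF.Ωm k X) D)).obj (CurvePoint.ptMod p hp))
    hN (by rw [ptCl, hker]; rfl)
  omega

include hdim in
/-- only finitely many points keep the first cohomology -/
theorem finite_bad {L : X.Modules} (hL : PicF.IsInvertible L) (h1 : 0 < Module.finrank k (Coh.HH X L 1)) :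
    {p : X | ∃ (hp : IsClosed ({p} : Set X)) (M : X.Modules), PicF.IsInvertible M ∧
      PicF.cl M * PicF.cl (CurvePoint.ptMod p hp) = PicF.cl L ∧
      Module.finrank k (Coh.HH X M 1) = Module.finrank k (Coh.HH X L 1)}.Finite := by
  obtain ⟨D, hD, ⟨e⟩⟩ := H23.PicInv.exists_inverse hL
  have hN : PicF.IsInvertible (CohB1.tensorMod (CurveFF.Ωm k X) D) :=
    InvX.isInvertible_tensorMod (CurveFF.isInvertible_Ωm k X hdim) hD
  by_contra hinf
  have h2 := CurveFF.finrank_h1_eq k hdim hL e
  obtain ⟨p, hp, ⟨hp', M, hM, hcl, hbad⟩, hdrop⟩ :=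
    CurveField.exists_drop k hdim hN (by omega) (fun p hp => hp.1) hinf
  obtain ⟨h3, h4⟩ := finrank_h1_twist k hdim hM hL e hD p hp hcl
  omega

end Groth.Agent.PicCurve.Pts

end
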