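import Groth.Agent.PicCurve.Pts.Drop
import Groth.Agent.PicCurve.Pts.Sets

/-!
# Sums of points in a coarse Jacobian
-/

noncomputable section

set_option autoImplicit false
set_option linter.style.haveILetI false
set_option linter.unusedSectionVars false
set_option backward.isDefEq.respectTransparency false
set_option backward.isDefEq.respectTransparency.types false
set_option maxHeartbeats 1000000
attribute [-instance] CategoryTheory.catToReflQuiver

universe u

open CategoryTheory CategoryTheory.Limits AlgebraicGeometry TopologicalSpace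
  MonoidalCategory CartesianMonoidalCategory
open scoped MonObj

namespace Groth.Agent.PicCurve.Pts

open Alb

variable {k : Type u} [Field k]

/-- sums of images of n points -/
def WJ {C : Scheme.{u}} (f : C ⟶ Spec (CommRingCat.of k)) {J : Over (Spec (CommRingCat.of k))} [GrpObj J]
    (j : Over.mk f ⟶ J) (n : ℕ) : Set (𝟙_ (Over (Spec (CommRingCat.of k))) ⟶ J) :=
  {a | ∃ x : Fin n → (𝟙_ (Over (Spec (CommRingCat.of k))) ⟶ Over.mk f), a = (List.ofFn fun i => x i ≫ j).prod}

theorem prod_comp_hom {T : Over (Spec (CommRingCat.of k))} {J J' : Over (Spec (CommRingCat.of k))} [GrpObj J]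
    [GrpObj J'] (e : J ⟶ J') [IsMonHom e] : ∀ (n : ℕ) (v : Fin n → (T ⟶ J)),
    (List.ofFn v).prod ≫ e = (List.ofFn fun i => v i ≫ e).prod
  | 0, v => by simp [MonObj.one_comp]
  | n + 1, v => by
    rw [List.ofFn_succ, List.ofFn_succ, List.prod_cons, List.prod_cons, MonObj.mul_comp, prod_comp_hom e n]

theorem mul_mem_WJ {C : Scheme.{u}} {f : C ⟶ Spec (CommRingCat.of k)} {J : Over (Spec (CommRingCat.of k))}
    [GrpObj J] [IsCommMonObj J] {j : Over.mk f ⟶ J} {m n : ℕ} {a b : 𝟙_ (Over (Spec (CommRingCat.of k))) ⟶ J}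
    (ha : a ∈ WJ f j m) (hb : b ∈ WJ f j n) : a * b ∈ WJ f j (m + n) := by
  obtain ⟨x, rfl⟩ := ha
  obtain ⟨y, rfl⟩ := hb
  refine ⟨Fin.append x y, ?_⟩
  rw [← List.prod_append, ← List.ofFn_fin_append]
  congr 2
  funext i
  refine Fin.addCases (fun l => ?_) (fun l => ?_) i <;> simp

variable [IsAlgClosed k] (C : Scheme.{u}) [C.Over (Spec (CommRingCat.of k))]
  [IsProper (C ↘ Spec (CommRingCat.of k))] [Smooth (C ↘ Spec (CommRingCat.of k))]
  [GeometricallyConnected (C ↘ Spec (CommRingCat.of k))]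
  (hdim : topologicalKrullDim C = 1) (σ : Spec (CommRingCat.of k) ⟶ C)
  (hσ : σ ≫ (C ↘ Spec (CommRingCat.of k)) = 𝟙 _)
  {J : Over (Spec (CommRingCat.of k))} [GrpObj J] [IsCommMonObj J]
  {ψ : (ModFun.PicDeg (C ↘ Spec (CommRingCat.of k)) 0).Hom ⊤ J}
  (hJ : Jac.IsJacobian (C ↘ Spec (CommRingCat.of k)) ⊤ J ψ)
  {j : Over.mk (C ↘ Spec (CommRingCat.of k)) ⟶ J}
  (hj : Jac.IsAbelJacobiAt (C ↘ Spec (CommRingCat.of k)) σ ψ j)

include hdim σ hσ hJ hj in
theorem coarse_facts : IsProper J.hom ∧ ∀ {n r : ℕ}, n + r + 1 ≤ Curv2.genus k C →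
    ∀ {a : 𝟙_ (Over (Spec (CommRingCat.of k))) ⟶ J}, a ∉ WJ (C ↘ Spec (CommRingCat.of k)) j n →
      ∃ b ∈ WJ (C ↘ Spec (CommRingCat.of k)) j r, a * b ∉ WJ (C ↘ Spec (CommRingCat.of k)) j (n + r) := by
  let f := C ↘ Spec (CommRingCat.of k)
  haveI : IsProper f := ‹_›
  haveI : Smooth f := ‹_›
  haveI : ConnectedSpace C := connectedSpace_of_geomConn f
  haveI : GeometricallyIntegral f := Groth.Agent.S7791.result f σ hσ
  haveI : IsIntegral C := GeometricallyIntegral.isIntegral_of_subsingleton f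
  haveI : SmoothOfRelativeDimension 1 f := Groth.Agent.HilbCurve.smoothOfRelativeDimension_one f hdim
  obtain ⟨J₀, ξ, hp, hsm, hi, hξ, huniv⟩ := Groth.Agent.PicCurve.exists_jacobian_field f hdim σ hσ
  haveI := hp; haveI := hsm; haveI := hi
  haveI : IrreducibleSpace J₀.left := GeometricallyIrreducible.irreducibleSpace_of_subsingleton J₀.hom
  letI := PicCurve.jacGrpObj f hdim σ hσ ξ hξ huniv
  obtain ⟨e, he, he', hej⟩ := exists_iso_jac f hdim σ hσ ξ hξ huniv hJ hj
  haveI := he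
  haveI := he'
  refine ⟨?_, fun {n r} hn a ha => ?_⟩
  · rw [← Over.w e.inv]
    infer_instance
  have key : ∀ (m : ℕ) (a : 𝟙_ (Over (Spec (CommRingCat.of k))) ⟶ J),
      a ∈ WJ f j m ↔ a ≫ e.inv ∈ Wpts hdim σ hσ ξ hξ huniv m := by
    intro m a
    constructor
    · rintro ⟨x, rfl⟩
      refine ⟨x, ?_⟩
      rw [prod_comp_hom e.inv]
      simp only [← hej, Category.assoc, e.hom_inv_id, Category.comp_id]
      rfl
    · rintro ⟨x, hx⟩
      refine ⟨x, ?_⟩
      rw [← Category.comp_id a, ← e.inv_hom_id, ← Category.assoc, hx, prod_comp_hom e.hom]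
      simp only [Category.assoc]
      congr 2
      funext i
      exact congrArg (x i ≫ ·) hej
  rw [key] at ha
  obtain ⟨b, hb, hab⟩ := exists_outside hdim σ hσ ξ hξ huniv r hn ha
  refine ⟨b ≫ e.hom, (key _ _).2 (by rwa [Category.assoc, e.hom_inv_id, Category.comp_id]), fun h => hab ?_⟩
  have := (key _ _).1 h
  rwa [MonObj.mul_comp, Category.assoc, e.hom_inv_id, Category.comp_id] at this

include hdim σ hσ hJ hj in
/-- a translate of the sums of r points lies in the sums of n points only trivially -/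
theorem translate_subset_iff {n r : ℕ} (hn : n + r + 1 ≤ Curv2.genus k C)
    (a : 𝟙_ (Over (Spec (CommRingCat.of k))) ⟶ J) :
    (∀ x ∈ WJ (C ↘ Spec (CommRingCat.of k)) j r, a * x ∈ WJ (C ↘ Spec (CommRingCat.of k)) j (n + r)) ↔
      a ∈ WJ (C ↘ Spec (CommRingCat.of k)) j n := by
  refine ⟨fun h => ?_, fun ha x hx => mul_mem_WJ ha hx⟩
  by_contra ha
  obtain ⟨b, hb, hab⟩ := (coarse_facts C hdim σ hσ hJ hj).2 hn ha
  exact hab (h b hb)

end Groth.Agent.PicCurve.Pts

end
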