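import Groth.Agent.PicCurve.Pts.Generic

/-!
# Uniqueness of the divisor in a class with one section
-/

noncomputable section

set_option autoImplicit false
set_option linter.style.haveILetI false
set_option linter.unusedSectionVars false
set_option backward.isDefEq.respectTransparency false
set_option backward.isDefEq.respectTransparency.types false
set_option maxHeartbeats 1000000
set_option synthInstance.maxHeartbeats 400000
attribute [-instance] CategoryTheory.catToReflQuiver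

universe u

open CategoryTheory CategoryTheory.Limits AlgebraicGeometry TopologicalSpace Opposite
  MonoidalCategory CartesianMonoidalCategory
open scoped MonObj
open Groth.Agent.H23.PicMul Groth.Agent.InvX

namespace Groth.Agent.PicCurve.Pts

open HilbDLib Alb

variable {k : Type u} [Field k] [IsAlgClosed k] {X : Scheme.{u}} [X.Over (Spec (CommRingCat.of k))]
  [IsProper (X ↘ Spec (CommRingCat.of k))] [Smooth (X ↘ Spec (CommRingCat.of k))]
  [SmoothOfRelativeDimension 1 (X ↘ Spec (CommRingCat.of k))]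
  [GeometricallyIntegral (X ↘ Spec (CommRingCat.of k))] [IsIntegral X]
  (hdim : topologicalKrullDim X = 1) (σ : Spec (CommRingCat.of k) ⟶ X)
  (hσ : σ ≫ (X ↘ Spec (CommRingCat.of k)) = 𝟙 _)
  {J : Over (Spec (CommRingCat.of k))} (ξ : PicF.Rig (X ↘ Spec (CommRingCat.of k)) σ hσ J)
  (hξ : FGA.HasFibreDegreeZeroCl (X ↘ Spec (CommRingCat.of k)) J ξ.1)
  (huniv : ∀ (T : Over (Spec (CommRingCat.of k))) (c : PicF.Rig (X ↘ Spec (CommRingCat.of k)) σ hσ T),
    FGA.HasFibreDegreeZeroCl (X ↘ Spec (CommRingCat.of k)) T c.1 →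
    ∃! g : T ⟶ J, PicF.pullCl (PicF.XTmap (X ↘ Spec (CommRingCat.of k)) g) ξ.1 = c.1)
  [IsProper J.hom]

/-- the point of the fibre over a rational point -/
def sPt (y : 𝟙_ (Over (Spec (CommRingCat.of k))) ⟶ Over.mk (X ↘ Spec (CommRingCat.of k))) :
    (PicF.XT (X ↘ Spec (CommRingCat.of k)) (𝟙_ (Over (Spec (CommRingCat.of k))))) :=
  (Alb.sc y) (show Spec (CommRingCat.of k) from IsLocalRing.closedPoint k)

omit [IsProper J.hom] in
theorem sPt_injective : Function.Injective (sPt (k := k) (X := X)) := fun y y' h => by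
  haveI : LocallyOfFiniteType (Over.mk (X ↘ Spec (CommRingCat.of k))).hom :=
    inferInstanceAs (LocallyOfFiniteType (X ↘ Spec (CommRingCat.of k)))
  refine pt_injective (Y := Over.mk (X ↘ Spec (CommRingCat.of k))) ?_
  have hfst : ∀ w : 𝟙_ (Over (Spec (CommRingCat.of k))) ⟶ Over.mk (X ↘ Spec (CommRingCat.of k)),
      pt w = (pullback.fst (X ↘ Spec (CommRingCat.of k)) (𝟙 _)) (sPt w) := fun w =>
    (congr($(sec_fst (X ↘ Spec (CommRingCat.of k)) _ w.left (Over.w w))
      (show Spec (CommRingCat.of k) from IsLocalRing.closedPoint k))).symm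
  rw [hfst, hfst, h]

omit [IsProper J.hom] in
theorem support_gr (y z : 𝟙_ (Over (Spec (CommRingCat.of k))) ⟶ Over.mk (X ↘ Spec (CommRingCat.of k))) :
    sPt z ∈ (gr y).support ↔ z = y := by
  haveI : IsClosedImmersion (Alb.sc y) := isClosedImmersion_sec _ _ _ _
  haveI : Subsingleton (𝟙_ (Over (Spec (CommRingCat.of k)))).left := inferInstanceAs (Subsingleton (PrimeSpectrum k))
  have h : ((gr y).support : Set (PicF.XT (X ↘ Spec (CommRingCat.of k)) (𝟙_ (Over (Spec (CommRingCat.of k)))))) =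
      Set.range (Alb.sc y) := by
    rw [show gr y = (Alb.sc y).ker from secGraph_eq _ _ _ _, Scheme.Hom.support_ker,
      (Alb.sc y).isClosedEmbedding.isClosed_range.closure_eq]
  rw [← SetLike.mem_coe, h]
  constructor
  · rintro ⟨t, ht⟩
    refine sPt_injective (ht.symm.trans ?_)
    rw [sPt, Subsingleton.elim t (show Spec (CommRingCat.of k) from IsLocalRing.closedPoint k)]
  · rintro rfl
    exact ⟨_, rfl⟩

include hdim hξ huniv in
theorem exists_divisor_supp (D : Tower (X ↘ Spec (CommRingCat.of k))) : ∀ (n : ℕ)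
    (x : Fin n → (𝟙_ (Over (Spec (CommRingCat.of k))) ⟶ Over.mk (X ↘ Spec (CommRingCat.of k)))),
    letI := jacGrpObj (X ↘ Spec (CommRingCat.of k)) hdim σ hσ ξ hξ huniv
    ∃ E : 𝟙_ (Over (Spec (CommRingCat.of k))) ⟶ D.H n,
      E ≫ toJ (X ↘ Spec (CommRingCat.of k)) hdim σ hσ ξ hξ huniv D n =
          (List.ofFn fun i => x i ≫ aj (X ↘ Spec (CommRingCat.of k)) hdim σ hσ ξ hξ huniv).prod ∧
        ∀ z, sPt z ∈ (HilbD.pull (X ↘ Spec (CommRingCat.of k)) E (D.Z n).1).support ↔ ∃ i, z = x i := by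
  letI := jacGrpObj (X ↘ Spec (CommRingCat.of k)) hdim σ hσ ξ hξ huniv
  haveI := jac_isCommMonObj (X ↘ Spec (CommRingCat.of k)) hdim σ hσ ξ hξ huniv
  intro n
  induction n with
  | zero =>
    intro x
    obtain ⟨E, hE, -⟩ := D.univ 0 _ ⟨⊤, deg_zero_top (X ↘ Spec (CommRingCat.of k)) (𝟙_ (Over (Spec (CommRingCat.of k))))⟩
    refine ⟨E, by rw [List.ofFn_zero, List.prod_nil, toJ, sum_zero, MonObj.comp_one], fun z => ?_⟩
    rw [hE]
    simp
    exact Set.notMem_empty _
  | succ n ih =>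
    intro x
    obtain ⟨E₀, hE₀, hs⟩ := ih fun i => x i.castSucc
    refine ⟨pair E₀ (x (Fin.last n)) ≫ D.m n, ?_, fun z => ?_⟩
    · rw [Category.assoc, toJ, pair_m_sum D (aj (X ↘ Spec (CommRingCat.of k)) hdim σ hσ ξ hξ huniv) hdim n E₀ (x (Fin.last n)),
        List.ofFn_succ', List.prod_concat, ← hE₀]
      rfl
    · rw [← pull_pull, D.pull_m, HilbDLib.pull_mul, pull_pull, pull_gr, pair_prH, pair_prX,
        Scheme.IdealSheafData.support_mul]
      refine (or_congr (hs z) (support_gr _ z)).trans ?_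
      rw [Fin.exists_fin_succ']

include hdim hξ huniv in
/-- in a class with one section all divisors have the same points -/
theorem exists_eq_of_h0_le_one {n : ℕ} (a : 𝟙_ (Over (Spec (CommRingCat.of k))) ⟶ J)
    (x x' : Fin n → (𝟙_ (Over (Spec (CommRingCat.of k))) ⟶ Over.mk (X ↘ Spec (CommRingCat.of k))))
    (hx : letI := jacGrpObj (X ↘ Spec (CommRingCat.of k)) hdim σ hσ ξ hξ huniv
      a = (List.ofFn fun i => x i ≫ aj (X ↘ Spec (CommRingCat.of k)) hdim σ hσ ξ hξ huniv).prod)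
    (hx' : letI := jacGrpObj (X ↘ Spec (CommRingCat.of k)) hdim σ hσ ξ hξ huniv
      a = (List.ofFn fun i => x' i ≫ aj (X ↘ Spec (CommRingCat.of k)) hdim σ hσ ξ hξ huniv).prod)
    {M : X.Modules} (hM : PicF.IsInvertible M)
    (hcl : PicF.cl M = clN (X ↘ Spec (CommRingCat.of k)) σ hσ ξ n a)
    (h1 : Module.finrank k (Coh.HH X M 0) ≤ 1) (i : Fin n) : ∃ l, x' i = x l := by
  let f := X ↘ Spec (CommRingCat.of k)
  let P : Over (Spec (CommRingCat.of k)) := 𝟙_ _
  letI := jacGrpObj f hdim σ hσ ξ hξ huniv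
  letI : (PicF.XT f P).Over (Spec (CommRingCat.of k)) := ⟨PicF.XTproj f P⟩
  haveI : IsProper (PicF.XT f P ↘ Spec (CommRingCat.of k)) := isProper_proj f P
  haveI : IsIntegral (PicF.XT f P) := isIntegral_XT f (𝟙 _)
  haveI := CurveCohLib.isNoetherian_of_proper (k := k) (X := PicF.XT f P)
  haveI : Subsingleton P.left := inferInstanceAs (Subsingleton (PrimeSpectrum k))
  haveI : Nonempty P.left := inferInstanceAs (Nonempty (PrimeSpectrum k))
  obtain ⟨D⟩ := nonempty_tower (f := f) hdim σ hσ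
  let L := (Scheme.Modules.pullback (p₁ f)).obj M
  have hL : PicF.IsInvertible L := PicClLib.isInvertible_pullback _ hM
  have hLcl : PicF.cl L = PicF.pullCl (PicF.XTmap f a) (shCl f σ hσ ξ n) := by
    rw [← pull_clN f σ hσ ξ n a, ← hcl]
    rfl
  rw [← finrank_p₁ M hM 0, FppfPic.HyperSec.finrank_HH_zero k L] at h1
  letI := FppfPic.HyperSec.secMod k (X := PicF.XT f P) L
  haveI : Module.Finite k Γ(L, ⊤) :=
    FppfPic.HyperSec.finite_sections k L (CurveCohLib.finite_HH (k := k) (CurveDeg.isCoh_of_isInvertible hL) 0)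
  have hsec : ∀ (y : Fin n → (P ⟶ Over.mk f)), a = (List.ofFn fun i => y i ≫ aj f hdim σ hσ ξ hξ huniv).prod →
      ∃ s : Γ(L, ⊤), s ≠ 0 ∧ ∀ z, sPt z ∈ (PicF2.zeroScheme L (ofSect s)).support ↔ ∃ i, z = y i := by
    intro y hy
    obtain ⟨E, hE, hs⟩ := exists_divisor_supp hdim σ hσ ξ hξ huniv D n y
    have hI := (RelCurveDiv.isEffCartier_of_finLocFree _ _ (isFinLocFreeOfDeg_pull f E _ (D.Z n).2).1).1
    obtain ⟨L', s', hL', hs'⟩ := exists_line _ hI
    have hL'cl : PicF.cl L' = PicF.cl L := by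
      rw [hLcl, hy, ← hE, pull_shCl_eq_oCl f hdim σ hσ ξ hξ huniv D E, oCl]
      refine eq_invCl _ ?_
      have := cl_mul_idl hL' s' (hs'.symm ▸ hI)
      rw [hs'] at this
      exact (_root_.mul_comm _ _).trans this
    obtain ⟨φ⟩ := cl_eq_iff.1 hL'cl
    refine ⟨φ.hom.app ⊤ s', fun h0 => not_isEffCartier_zero hL ?_, fun z => ?_⟩
    · rw [← h0, zeroScheme_map_iso hL' hL φ, hs']
      exact hI
    · rw [zeroScheme_map_iso hL' hL φ, hs']
      exact hs z
  obtain ⟨s, hs, hsx⟩ := hsec x hx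
  obtain ⟨s', hs0, hsx'⟩ := hsec x' hx'
  obtain ⟨c, rfl⟩ : ∃ c : k, c • s = s' := by
    have h2 : Module.finrank k Γ(L, ⊤) = 1 :=
      le_antisymm h1 (Module.finrank_pos_iff_exists_ne_zero.2 ⟨s, hs⟩)
    exact exists_smul_eq_of_finrank_eq_one h2 hs s'
  have hc : c ≠ 0 := fun h0 => hs0 (by rw [h0]; exact zero_smul k s)
  have hz : PicF2.zeroScheme L (ofSect (c • s)) = PicF2.zeroScheme L (ofSect s) :=
    zeroScheme_smul hL ((Ne.isUnit hc).map (FppfPic.HyperSec.gl k (X := PicF.XT f P))) s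
  exact (hsx (x' i)).1 (hz ▸ (hsx' (x' i)).2 ⟨i, rfl⟩)

end Groth.Agent.PicCurve.Pts

end
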