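import Groth.Agent.PicCurve.Pts.Main
import Groth.Agent.PicCurve.Pts.Unique
import Groth.Agent.PicCurve.Alb.CoarseClass

/-!
# Sums of g points through a given point
-/

noncomputable section

set_option autoImplicit false
set_option linter.style.haveILetI false
set_option linter.unusedSectionVars false
set_option backward.isDefEq.respectTransparency false
set_option backward.isDefEq.respectTransparency.types false
set_option maxHeartbeats 1000000
attribute [-instance] CategoryTheory.catToReflQuiver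

universe u

open CategoryTheory CategoryTheory.Limits AlgebraicGeometry TopologicalSpace
  MonoidalCategory CartesianMonoidalCategory
open scoped MonObj
open Groth.Agent.H23.PicMul

namespace Groth.Agent.PicCurve.Pts

open Alb

variable {k : Type u} [Field k] [IsAlgClosed k] (C : Scheme.{u}) [C.Over (Spec (CommRingCat.of k))]
  [IsProper (C ↘ Spec (CommRingCat.of k))] [Smooth (C ↘ Spec (CommRingCat.of k))]
  [GeometricallyConnected (C ↘ Spec (CommRingCat.of k))]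
  (hdim : topologicalKrullDim C = 1) (σ : Spec (CommRingCat.of k) ⟶ C)
  (hσ : σ ≫ (C ↘ Spec (CommRingCat.of k)) = 𝟙 _)
  {J : Over (Spec (CommRingCat.of k))} [GrpObj J] [IsCommMonObj J]
  {ψ : (ModFun.PicDeg (C ↘ Spec (CommRingCat.of k)) 0).Hom ⊤ J}
  (hJ : Jac.IsJacobian (C ↘ Spec (CommRingCat.of k)) ⊤ J ψ)
  {j : Over.mk (C ↘ Spec (CommRingCat.of k)) ⟶ J}
  (hj : Jac.IsAbelJacobiAt (C ↘ Spec (CommRingCat.of k)) σ ψ j)

include hdim hσ hJ hj in
theorem point_or_residual {g : ℕ} (hg : Curv2.genus k C = g) (hg2 : 2 ≤ g)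
    (Kf : (PicF.XT (C ↘ Spec (CommRingCat.of k)) (𝟙_ (Over (Spec (CommRingCat.of k))))).Modules)
    (hKf : Nonempty (Kf ≅ (Scheme.Modules.pullback (pullback.fst (C ↘ Spec (CommRingCat.of k))
      (𝟙_ (Over (Spec (CommRingCat.of k)))).hom)).obj
      (CohB1.tensorMod (Omega.sheaf (C ↘ Spec (CommRingCat.of k))) (CohB1.tensorPow (ClSub.idealMod σ.ker) (2 * g - 2)))))
    (hKok : (ModFun.PicDeg (C ↘ Spec (CommRingCat.of k)) 0).ok (𝟙_ (Over (Spec (CommRingCat.of k)))) Kf)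
    {κ : 𝟙_ (Over (Spec (CommRingCat.of k))) ⟶ J}
    (hκ : ψ.app (𝟙_ (Over (Spec (CommRingCat.of k)))) Kf trivial hKok = κ)
    {r : ℕ} (hr : r ≤ g - 2) {u y : 𝟙_ (Over (Spec (CommRingCat.of k))) ⟶ J}
    (hu : u ∈ WJ (C ↘ Spec (CommRingCat.of k)) j (r + 1)) (hy : y ∈ WJ (C ↘ Spec (CommRingCat.of k)) j (g - 1 - r))
    (x₀ : 𝟙_ (Over (Spec (CommRingCat.of k))) ⟶ Over.mk (C ↘ Spec (CommRingCat.of k)))
    (h : u * y * (x₀ ≫ j)⁻¹ ∈ WJ (C ↘ Spec (CommRingCat.of k)) j (g - 1)) :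
    u * (x₀ ≫ j)⁻¹ ∈ WJ (C ↘ Spec (CommRingCat.of k)) j r ∨
      y * (x₀ ≫ j)⁻¹ ∈ WJ (C ↘ Spec (CommRingCat.of k)) j (g - 2 - r) ∨
      κ * (u * y)⁻¹ ∈ WJ (C ↘ Spec (CommRingCat.of k)) j (g - 2) := by
  let f := C ↘ Spec (CommRingCat.of k)
  haveI : IsProper f := ‹_›
  haveI : Smooth f := ‹_›
  haveI : ConnectedSpace C := connectedSpace_of_geomConn f
  haveI : GeometricallyIntegral f := Groth.Agent.S7791.result f σ hσ
  haveI : IsIntegral C := GeometricallyIntegral.isIntegral_of_subsingleton f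
  haveI : SmoothOfRelativeDimension 1 f := Groth.Agent.HilbCurve.smoothOfRelativeDimension_one f hdim
  obtain ⟨J₀, ξ, hp, hsm, hi, hξ, huniv⟩ := Groth.Agent.PicCurve.exists_jacobian_field f hdim σ hσ
  haveI := hp; haveI := hsm; haveI := hi
  haveI : IrreducibleSpace J₀.left := GeometricallyIrreducible.irreducibleSpace_of_subsingleton J₀.hom
  letI := PicCurve.jacGrpObj f hdim σ hσ ξ hξ huniv
  obtain ⟨e, he, he', hej, hpt⟩ := exists_iso_jac_class f hdim σ hσ ξ hξ huniv hJ hj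
  haveI := he
  haveI := he'
  have key : ∀ (m : ℕ) (a : 𝟙_ (Over (Spec (CommRingCat.of k))) ⟶ J₀),
      a ≫ e.hom ∈ WJ f j m ↔ a ∈ Wpts hdim σ hσ ξ hξ huniv m := by
    intro m a
    constructor
    · rintro ⟨x, hx⟩
      refine ⟨x, ?_⟩
      rw [← Category.comp_id a, ← e.hom_inv_id, ← Category.assoc, hx, prod_comp_hom e.inv]
      simp only [← hej, Category.assoc, e.hom_inv_id, Category.comp_id]
      rfl
    · rintro ⟨x, rfl⟩
      refine ⟨x, ?_⟩
      rw [prod_comp_hom e.hom]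
      simp only [Category.assoc]
      congr 2
      funext i
      exact congrArg (x i ≫ ·) hej
  have hΩ := CurveFF.isInvertible_Ωm k C hdim
  have hδ := isInvertibleCl_δ f σ hσ
  let c : PicF.Cl C := PicF.cl (CurveFF.Ωm k C) * δ σ ^ (2 * g - 2)
  have hc : PicF.IsInvertibleCl c := isInvertibleCl_mul ⟨_, rfl, hΩ⟩ (isInvertibleCl_pow hδ _)
  have hdΩ : degX f (PicF.cl (CurveFF.Ωm k C)) = 2 * (g : ℤ) - 2 := by
    rw [degX_cl (k := k) hdim.le hΩ, (CurveFF.canonical_invariants k C hdim).2, hg]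
  obtain ⟨κ₀, hκ₀⟩ := exists_A f σ hσ ξ huniv hc (by
    rw [degX_mul f hdim ⟨_, rfl, hΩ⟩ (isInvertibleCl_pow hδ _), degX_δ_pow f hdim σ hσ, hdΩ]
    omega)
  have hκe : κ = κ₀ ≫ e.hom := by
    rw [← hκ]
    refine hpt _ Kf hKok κ₀ 1 Alb.isInvertibleCl_one ?_
    rw [pullCl_one, _root_.mul_one, ← pull_A f σ hσ ξ κ₀, hκ₀]
    obtain ⟨φ⟩ := hKf
    refine (cl_eq_iff.2 ⟨φ⟩).trans ?_
    show PicF.pullCl (p₁ f) (PicF.cl _) = _
    congr 1
    exact (cl_tensor _ _).trans (congrArg (_ * ·) (cl_tensorPow _ _))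
  obtain ⟨xu, hxu⟩ := hu
  obtain ⟨xy, hxy⟩ := hy
  obtain ⟨xw, hxw⟩ := h
  have hn : r + 1 + (g - 1 - r) = g := by omega
  have hn' : g - 1 + 1 = g := by omega
  let xs : Fin g → (𝟙_ (Over (Spec (CommRingCat.of k))) ⟶ Over.mk f) := fun i => Fin.append xu xy (Fin.cast hn.symm i)
  let xs' : Fin g → (𝟙_ (Over (Spec (CommRingCat.of k))) ⟶ Over.mk f) := fun i =>
    (Fin.snoc xw x₀ : Fin (g - 1 + 1) → (𝟙_ (Over (Spec (CommRingCat.of k))) ⟶ Over.mk f)) (Fin.cast hn'.symm i)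
  have hA : u * y = (List.ofFn fun i => xs i ≫ j).prod := by
    rw [hxu, hxy, prod_ofFn_split hn.symm fun i => xs i ≫ j]
    simp only [xs, Fin.cast_cast, Fin.cast_eq_self, Fin.append_left, Fin.append_right]
  have hA' : u * y = (List.ofFn fun i => xs' i ≫ j).prod := by
    rw [List.ofFn_congr hn'.symm, List.ofFn_succ', List.prod_concat]
    simp only [xs', Fin.cast_cast, Fin.cast_eq_self, Fin.snoc_castSucc, Fin.snoc_last]
    rw [← hxw, inv_mul_cancel_right]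
  -- transfer to the fine Jacobian
  have htr : ∀ (n : ℕ) (v : Fin n → (𝟙_ (Over (Spec (CommRingCat.of k))) ⟶ Over.mk f)),
      (List.ofFn fun i => v i ≫ j).prod ≫ e.inv = (List.ofFn fun i => v i ≫ aj f hdim σ hσ ξ hξ huniv).prod := by
    intro n v
    rw [prod_comp_hom e.inv]
    congr 2
    funext i
    rw [← hej, Category.assoc, Category.assoc, e.hom_inv_id, Category.comp_id]
  let a₀ := (u * y) ≫ e.inv
  obtain ⟨M, hMcl, hM⟩ := isInvertibleCl_clN f σ hσ ξ g a₀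
  by_cases h1 : Module.finrank k (Coh.HH C M 0) ≤ 1
  · obtain ⟨l, hl⟩ := exists_eq_of_h0_le_one hdim σ hσ ξ hξ huniv a₀ xs xs'
      (by show (u * y) ≫ e.inv = _; rw [hA, htr])
      (by show (u * y) ≫ e.inv = _; rw [hA', htr]) hM hMcl h1 (Fin.cast hn' (Fin.last (g - 1)))
    have hl' : x₀ = Fin.append xu xy (Fin.cast hn.symm l) := by
      rw [← show xs' (Fin.cast hn' (Fin.last (g - 1))) = x₀ by
        simp only [xs', Fin.cast_cast, Fin.cast_eq_self, Fin.snoc_last]]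
      exact hl
    have hrem : ∀ (m : ℕ) (v : Fin (m + 1) → (𝟙_ (Over (Spec (CommRingCat.of k))) ⟶ Over.mk f)) (i : Fin (m + 1)),
        v i = x₀ → (List.ofFn fun i => v i ≫ j).prod * (x₀ ≫ j)⁻¹ ∈ WJ f j m := by
      intro m v i hi
      refine ⟨fun l => v (i.succAbove l), ?_⟩
      rw [List.prod_ofFn, List.prod_ofFn, Fin.prod_univ_succAbove _ i, hi, _root_.mul_comm (x₀ ≫ j),
        mul_inv_cancel_right]
    revert hl'
    refine Fin.addCases (fun l => ?_) (fun l => ?_) (Fin.cast hn.symm l) <;> intro hl'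
    · rw [Fin.append_left] at hl'
      exact Or.inl (hxu ▸ hrem r xu l hl'.symm)
    · rw [Fin.append_right] at hl'
      refine Or.inr (Or.inl ?_)
      obtain ⟨m, hm⟩ : ∃ m, g - 1 - r = m + 1 := ⟨g - 2 - r, by omega⟩
      rw [show g - 2 - r = m by omega, hxy, List.ofFn_congr hm]
      exact hrem m _ (Fin.cast hm l) (by simp [hl'])
  · refine Or.inr (Or.inr ?_)
    rw [show κ * (u * y)⁻¹ = (κ₀ * a₀⁻¹) ≫ e.hom by
      rw [MonObj.mul_comp, GrpObj.inv_comp, ← hκe, Category.assoc, e.inv_hom_id, Category.comp_id], key]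
    obtain ⟨D, hD, ⟨w⟩⟩ := H23.PicInv.exists_inverse hM
    have hN : PicF.IsInvertible (CohB1.tensorMod (CurveFF.Ωm k C) D) := InvX.isInvertible_tensorMod hΩ hD
    have hcl : PicF.cl (CohB1.tensorMod (CurveFF.Ωm k C) D) = clN f σ hσ ξ (g - 2) (κ₀ * a₀⁻¹) := by
      refine eq_of_invCl_mul (isInvertibleCl_mul (isInvertibleCl_A f σ hσ ξ a₀) (isInvertibleCl_pow hδ (g - 2))) ?_
      have hu' : PicF.cl M * PicF.cl D = 1 := cl_eq_iff.2 ⟨w⟩
      rw [mul_left_comm (clN f σ hσ ξ (g - 2) _), clN_mul_pow,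
        _root_.mul_comm (A f σ hσ ξ a₀) (A f σ hσ ξ (κ₀ * a₀⁻¹)), ← A_mul f hdim σ hσ ξ hξ huniv,
        inv_mul_cancel_right, hκ₀, cl_tensor, ← clN_mul_pow f σ hσ ξ g a₀, ← hMcl]
      show PicF.cl (CurveFF.Ωm k C) * PicF.cl D * (PicF.cl M * δ σ ^ g * δ σ ^ (g - 2)) = _
      rw [_root_.mul_assoc (PicF.cl M), ← pow_add, show g + (g - 2) = 2 * g - 2 by omega,
        _root_.mul_assoc, ← _root_.mul_assoc (PicF.cl D), _root_.mul_comm (PicF.cl D), hu', _root_.one_mul]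
    rw [mem_Wpts_iff hdim σ hσ ξ hξ huniv (g - 2) _ hN hcl]
    have h2 := CurveFF.finrank_h1_eq k hdim hM w
    have hd := degX_cl (k := k) hdim.le hM
    rw [hMcl, degX_clN f hdim σ hσ ξ hξ, CurveCohLib.Clifford.deg_eq k hdim hM, hg] at hd
    rw [← h2]
    omega

end Groth.Agent.PicCurve.Pts

end
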