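import Groth.Agent.PicCurve.Pts.Generic

/-!
# Rational points of products of a curve mapped into the good part of the Jacobian
-/

noncomputable section

set_option autoImplicit false
set_option linter.style.haveILetI false
set_option linter.unusedSectionVars false
set_option backward.isDefEq.respectTransparency false
set_option backward.isDefEq.respectTransparency.types false
set_option maxHeartbeats 1000000
set_option synthInstance.maxHeartbeats 400000
attribute [-instance] CategoryTheory.catToReflQuiver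

universe u

open CategoryTheory CategoryTheory.Limits AlgebraicGeometry TopologicalSpace
  MonoidalCategory CartesianMonoidalCategory
open scoped MonObj
open Groth.Agent.H23.PicMul

namespace Groth.Agent.PicCurve.Pts

open HilbDLib Alb

theorem smooth_base {X S : Scheme.{u}} (f : X ⟶ S) [Smooth f] : ∀ n : ℕ, Smooth (WidePullback.base (fun _ : Fin n => f))
  | 0 => by
    haveI : IsIso (WidePullback.base (fun _ : Fin 0 => f)) :=
      ⟨WidePullback.lift (𝟙 S) (fun j => j.elim0) (fun j => j.elim0),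
        WidePullback.hom_ext _ _ _ (fun j => j.elim0) (by rw [Category.assoc, WidePullback.lift_base]; simp),
        WidePullback.lift_base _ _ _ _⟩
    infer_instance
  | n + 1 => by
    haveI := smooth_base f n
    haveI : Smooth (drop f n) := MorphismProperty.of_isPullback (isPullback_succ f n) inferInstance
    rw [show WidePullback.base (fun _ : Fin (n + 1) => f) = drop f n ≫ WidePullback.base _ from
      (WidePullback.lift_base _ _ _ _).symm]
    infer_instance

theorem comp_prod {S : Scheme.{u}} {J : Over S} [GrpObj J] [IsCommMonObj J] {T T' : Over S} (q : T' ⟶ T) :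
    ∀ (n : ℕ) (v : Fin n → (T ⟶ J)), q ≫ (List.ofFn v).prod = (List.ofFn fun j => q ≫ v j).prod
  | 0, v => by simp [MonObj.comp_one]
  | n + 1, v => by
    rw [List.ofFn_succ, List.ofFn_succ, List.prod_cons, List.prod_cons, MonObj.comp_mul, comp_prod q n]

variable {k : Type u} [Field k] {X : Scheme.{u}} (f : X ⟶ Spec (CommRingCat.of k))
  [IsProper f] [Smooth f] [SmoothOfRelativeDimension 1 f] [GeometricallyIntegral f] [IsIntegral X]
  (hdim : topologicalKrullDim X = 1) (σ : Spec (CommRingCat.of k) ⟶ X) (hσ : σ ≫ f = 𝟙 _)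
  {J : Over (Spec (CommRingCat.of k))} (ξ : PicF.Rig f σ hσ J) (hξ : FGA.HasFibreDegreeZeroCl f J ξ.1)
  (huniv : ∀ (T : Over (Spec (CommRingCat.of k))) (c : PicF.Rig f σ hσ T), FGA.HasFibreDegreeZeroCl f T c.1 →
    ∃! g : T ⟶ J, PicF.pullCl (PicF.XTmap f g) ξ.1 = c.1)
  [IsProper J.hom]

section Pts

variable {Ω : Type u} [Field Ω] [IsAlgClosed Ω] (r : Spec (CommRingCat.of Ω) ⟶ Spec (CommRingCat.of k))

include hdim hξ huniv in
theorem exists_tuple_over (D : Tower f) : ∀ (n : ℕ) (E : Over.mk r ⟶ D.H n), letI := jacGrpObj f hdim σ hσ ξ hξ huniv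
    ∃ x : Fin n → (Over.mk r ⟶ Over.mk f),
      E ≫ toJ f hdim σ hσ ξ hξ huniv D n = (List.ofFn fun i => x i ≫ aj f hdim σ hσ ξ hξ huniv).prod := by
  letI := jacGrpObj f hdim σ hσ ξ hξ huniv
  haveI := jac_isCommMonObj f hdim σ hσ ξ hξ huniv
  intro n
  induction n with
  | zero =>
    intro E
    exact ⟨Fin.elim0, by rw [List.ofFn_zero, List.prod_nil, toJ, sum_zero, MonObj.comp_one]⟩
  | succ n ih =>
    intro E
    obtain ⟨E₀, y, rfl⟩ := exists_pair f r D n E
    obtain ⟨x, hx⟩ := ih E₀
    refine ⟨Fin.snoc x y, ?_⟩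
    rw [Category.assoc, toJ, pair_m_sum D (aj f hdim σ hσ ξ hξ huniv) hdim n E₀ y, List.ofFn_succ', List.prod_concat]
    simp only [Fin.snoc_castSucc, Fin.snoc_last]
    rw [← hx]
    rfl

end Pts

include hdim hξ huniv in
theorem A_prod_sep : ∀ (n : ℕ) (x : Fin n → (𝟙_ (Over (Spec (CommRingCat.of k))) ⟶ Over.mk f)),
    letI := jacGrpObj f hdim σ hσ ξ hξ huniv
    A f σ hσ ξ (List.ofFn fun i => x i ≫ aj f hdim σ hσ ξ hξ huniv).prod *
      (List.ofFn fun i => ptCl f (x i)).prod = δ σ ^ n := by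
  letI := jacGrpObj f hdim σ hσ ξ hξ huniv
  intro n
  induction n with
  | zero =>
    intro x
    rw [List.ofFn_zero, List.ofFn_zero, List.prod_nil, List.prod_nil, _root_.mul_one, pow_zero]
    exact A_one f hdim σ hσ ξ hξ huniv
  | succ n ih =>
    intro x
    rw [List.ofFn_succ', List.ofFn_succ', List.prod_concat, List.prod_concat, A_mul f hdim σ hσ ξ hξ huniv,
      mul_mul_mul_comm, ih fun i => x i.castSucc, A_aj f hdim σ hσ ξ hξ huniv, pow_succ]

include hdim hξ huniv in
/-- a point of the Jacobian minus some n rational points is good -/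
theorem exists_tuple_good [IsSepClosed k] {n : ℕ} (hn : gen f ≤ n) (c : 𝟙_ (Over (Spec (CommRingCat.of k))) ⟶ J) :
    letI := jacGrpObj f hdim σ hσ ξ hξ huniv
    ∃ x : Fin n → (𝟙_ (Over (Spec (CommRingCat.of k))) ⟶ Over.mk f),
      (c * ((List.ofFn fun i => x i ≫ aj f hdim σ hσ ξ hξ huniv).prod)⁻¹).left
        (show Spec (CommRingCat.of k) from IsLocalRing.closedPoint k) ∈ goodU f σ hσ ξ := by
  letI := jacGrpObj f hdim σ hσ ξ hξ huniv
  haveI := jac_isCommMonObj f hdim σ hσ ξ hξ huniv
  let P := Over.mk (WidePullback.base fun (_ : Fin n) => f)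
  let π : Fin n → (P ⟶ Over.mk f) := fun i =>
    Over.homMk (WidePullback.π (fun (_ : Fin n) => f) i) (WidePullback.π_arrow (fun (_ : Fin n) => f) i)
  let φ : P ⟶ J := (toUnit P ≫ c) * ((List.ofFn fun i => π i ≫ aj f hdim σ hσ ξ hξ huniv).prod)⁻¹
  haveI : Smooth (WidePullback.base fun (_ : Fin n) => f) := smooth_base f n
  let O := φ.left ⁻¹ᵁ goodU f σ hσ ξ
  -- a geometric point of the open
  obtain ⟨z, hz⟩ : ∃ z, z ∈ O := by
    let K := AlgebraicClosure k
    let r : Spec (CommRingCat.of K) ⟶ Spec (CommRingCat.of k) := Spec.map (CommRingCat.ofHom (algebraMap k K))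
    obtain ⟨D⟩ := nonempty_tower (f := f) hdim σ hσ
    obtain ⟨a, ha⟩ := exists_good_point f r hdim σ hσ ξ hξ huniv
    obtain ⟨E, hE⟩ := exists_div f r hdim σ hσ ξ hξ huniv D ((toUnit (Over.mk r) ≫ c) * a⁻¹)
    obtain ⟨x, hx⟩ := exists_tuple_over f hdim σ hσ ξ hξ huniv r D (gen f) E
    obtain ⟨m, rfl⟩ := Nat.exists_eq_add_of_le hn
    let b : Over.mk r ⟶ Over.mk f := toUnit _ ≫ Over.homMk σ hσ
    have hb : b ≫ aj f hdim σ hσ ξ hξ huniv = 1 := by
      rw [Category.assoc, basePt_aj f hdim σ hσ ξ hξ huniv]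
      rfl
    let q : Over.mk r ⟶ P := Over.homMk
      (WidePullback.lift r (fun i => (Fin.append x (fun _ : Fin m => b) i).left) (fun i => Over.w _))
      (WidePullback.lift_base _ _ _ _)
    have hq : q ≫ φ = a := by
      have hone : (List.ofFn fun _ : Fin m => b ≫ aj f hdim σ hσ ξ hξ huniv).prod = 1 := List.prod_eq_one fun t ht => by
        obtain ⟨i, rfl⟩ := List.mem_ofFn.1 ht
        exact hb
      have e : ∀ i, q ≫ π i = Fin.append x (fun _ : Fin m => b) i := fun i =>
        Over.OverMorphism.ext (WidePullback.lift_π _ _ _ _ _)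
      simp only [φ, MonObj.comp_mul, GrpObj.comp_inv, comp_prod, ← Category.assoc, e]
      rw [toUnit_unique (q ≫ toUnit P) (toUnit _), prod_ofFn_split rfl]
      simp only [Fin.cast_eq_self, Fin.append_left, Fin.append_right]
      rw [hone, _root_.mul_one, ← hx, hE, mul_inv, inv_inv, ← _root_.mul_assoc, mul_inv_cancel, _root_.one_mul]
    refine ⟨q.left (show Spec (CommRingCat.of K) from IsLocalRing.closedPoint K), ?_⟩
    show φ.left (q.left _) ∈ goodU f σ hσ ξ
    rw [← Scheme.Hom.comp_apply, ← Over.comp_left, hq]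
    exact ha _
  obtain ⟨s, hs, hsO⟩ := GrpSchLib.exists_point_of_smooth (WidePullback.base fun (_ : Fin n) => f) O hz
  let q : 𝟙_ (Over (Spec (CommRingCat.of k))) ⟶ P := Over.homMk s hs
  refine ⟨fun i => q ≫ π i, ?_⟩
  have hq : q ≫ φ = c * ((List.ofFn fun i => (q ≫ π i) ≫ aj f hdim σ hσ ξ hξ huniv).prod)⁻¹ := by
    simp only [φ, MonObj.comp_mul, GrpObj.comp_inv, comp_prod, ← Category.assoc]
    rw [toUnit_unique (q ≫ toUnit P) (𝟙 _), Category.id_comp]
  rw [← hq]
  exact hsO

end Groth.Agent.PicCurve.Pts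

end
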