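import Groth.Agent.PicCurve.Pts.Main
import Groth.Agent.PicCurve.Pts.SepClosed
import Groth.Agent.PicCurve.Alb.CoarseClass

/-!
# Rational points of the theta locus of a coarse Jacobian
-/

noncomputable section

set_option autoImplicit false
set_option linter.style.haveILetI false
set_option linter.unusedSectionVars false
set_option backward.isDefEq.respectTransparency false
set_option backward.isDefEq.respectTransparency.types false
set_option maxHeartbeats 1000000
set_option synthInstance.maxHeartbeats 400000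
attribute [-instance] CategoryTheory.catToReflQuiver

universe u

open CategoryTheory CategoryTheory.Limits AlgebraicGeometry TopologicalSpace
  MonoidalCategory CartesianMonoidalCategory
open scoped MonObj
open Groth.Agent.H23.PicMul

namespace Groth.Agent.PicCurve.Pts

open Alb HilbDLib

theorem mem_jumpLocus {X S : Scheme.{u}} (f : X ⟶ S) (d : ℤ) {J : Over S} (ψ : (ModFun.PicDeg f d).Hom ⊤ J)
    (N : X.Modules) {Ω : Type u} [Field Ω] [IsAlgClosed Ω] (t : Spec (CommRingCat.of Ω) ⟶ S)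
    (x : (PicF.XT f (Over.mk t)).Modules) (hx : (ModFun.PicDeg f d).ok (Over.mk t) x)
    (hQ : ¬ Subsingleton (Coh.HH (PicF.XT f (Over.mk t))
      (CohB1.tensorMod x ((Scheme.Modules.pullback (pullback.fst f t)).obj N)) 0))
    (p : (Over.mk t).left) : (ψ.app (Over.mk t) x trivial hx).left.base p ∈ Jac.jumpLocus f d ψ N :=
  ⟨Ω, inferInstance, inferInstance, t, trivial, x, hx, hQ, p, rfl⟩

variable {k : Type u} [Field k] [IsAlgClosed k] (C : Scheme.{u}) [C.Over (Spec (CommRingCat.of k))]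
  [IsProper (C ↘ Spec (CommRingCat.of k))] [Smooth (C ↘ Spec (CommRingCat.of k))]
  [GeometricallyConnected (C ↘ Spec (CommRingCat.of k))]
  (hdim : topologicalKrullDim C = 1) (σ : Spec (CommRingCat.of k) ⟶ C)
  (hσ : σ ≫ (C ↘ Spec (CommRingCat.of k)) = 𝟙 _)
  {J : Over (Spec (CommRingCat.of k))} [GrpObj J] [IsCommMonObj J]
  {ψ : (ModFun.PicDeg (C ↘ Spec (CommRingCat.of k)) 0).Hom ⊤ J}
  (hJ : Jac.IsJacobian (C ↘ Spec (CommRingCat.of k)) ⊤ J ψ)
  {j : Over.mk (C ↘ Spec (CommRingCat.of k)) ⟶ J}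
  (hj : Jac.IsAbelJacobiAt (C ↘ Spec (CommRingCat.of k)) σ ψ j)

include hdim σ hσ hJ hj in
/-- the rational points of the theta locus form a translate of the sums of g - 1 points -/
theorem thetaLocus_pts {N : C.Modules} (hN : PicF.IsInvertible N)
    (hNdeg : Curv2.deg k C N 1 = (Curv2.genus k C : ℤ) - 1) (hg : 0 < Curv2.genus k C) :
    ∃ n0 : 𝟙_ (Over (Spec (CommRingCat.of k))) ⟶ J, ∀ a : 𝟙_ (Over (Spec (CommRingCat.of k))) ⟶ J,
      pt a ∈ Jac.thetaLocus (C ↘ Spec (CommRingCat.of k)) 0 ψ N ↔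
        a * n0 ∈ WJ (C ↘ Spec (CommRingCat.of k)) j (Curv2.genus k C - 1) := by
  let f := C ↘ Spec (CommRingCat.of k)
  haveI : IsProper f := ‹_›
  haveI : Smooth f := ‹_›
  haveI : ConnectedSpace C := connectedSpace_of_geomConn f
  haveI : GeometricallyIntegral f := Groth.Agent.S7791.result f σ hσ
  haveI : IsIntegral C := GeometricallyIntegral.isIntegral_of_subsingleton f
  haveI : SmoothOfRelativeDimension 1 f := Groth.Agent.HilbCurve.smoothOfRelativeDimension_one f hdim
  obtain ⟨J₀, ξ, hp, hsm, hi, hξ, huniv⟩ := Groth.Agent.PicCurve.exists_jacobian_field f hdim σ hσ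
  haveI := hp; haveI := hsm; haveI := hi
  haveI : IrreducibleSpace J₀.left := GeometricallyIrreducible.irreducibleSpace_of_subsingleton J₀.hom
  letI := PicCurve.jacGrpObj f hdim σ hσ ξ hξ huniv
  haveI := jac_isCommMonObj f hdim σ hσ ξ hξ huniv
  obtain ⟨e, he, he', hej, hpt⟩ := exists_iso_jac_class f hdim σ hσ ξ hξ huniv hJ hj
  haveI := he
  haveI := he'
  haveI : IsProper J.hom := by
    rw [← Over.w e.inv]
    infer_instance
  have key : ∀ (m : ℕ) (a : 𝟙_ (Over (Spec (CommRingCat.of k))) ⟶ J₀),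
      a ≫ e.hom ∈ WJ f j m ↔ a ∈ Wpts hdim σ hσ ξ hξ huniv m := by
    intro m a
    constructor
    · rintro ⟨x, hx⟩
      refine ⟨x, ?_⟩
      rw [← Category.comp_id a, ← e.hom_inv_id, ← Category.assoc, hx, prod_comp_hom e.inv]
      simp only [← hej, Category.assoc, e.hom_inv_id, Category.comp_id]
      rfl
    · rintro ⟨x, rfl⟩
      refine ⟨x, ?_⟩
      rw [prod_comp_hom e.hom]
      simp only [Category.assoc]
      congr 2
      funext i
      exact congrArg (x i ≫ ·) hej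
  let n : ℕ := Curv2.genus k C - 1
  have hN' : PicF.IsInvertibleCl (PicF.cl N) := ⟨N, rfl, hN⟩
  obtain ⟨n₀, hn₀⟩ := exists_clN f hdim σ hσ ξ hξ huniv n hN' (by
    rw [degX_cl (k := k) hdim.le hN, hNdeg]
    omega)
  refine ⟨n₀ ≫ e.hom, fun a => ?_⟩
  let Z : Set J.left := (Jac.transl J (n₀ ≫ e.hom)).left.base ⁻¹' Set.range (sumMap f j n).left.base
  have hmemZ : pt a ∈ Z ↔ a * (n₀ ≫ e.hom) ∈ WJ f j n := by
    show (Jac.transl J (n₀ ≫ e.hom)).left.base (pt a) ∈ Set.range (sumMap f j n).left.base ↔ _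
    rw [pt_transl]
    exact mem_range_sumMap f j n _
  constructor
  · intro ha
    have hZ : IsClosed Z := (isClosed_range_sumMap f j n).preimage (Jac.transl J (n₀ ≫ e.hom)).left.continuous
    have hsub : Jac.jumpLocus f 0 ψ N ⊆ Z := ?_
    · exact hmemZ.1 (closure_minimal hsub hZ ha)
    rintro m ⟨Ω, _, _, t, hP, x, hx, hQ, p, rfl⟩
    let T : Over (Spec (CommRingCat.of k)) := Over.mk t
    haveI : Subsingleton T.left := inferInstanceAs (Subsingleton (PrimeSpectrum Ω))
    haveI : Nonempty T.left := inferInstanceAs (Nonempty (PrimeSpectrum Ω))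
    obtain ⟨hxi, hxd⟩ := (ok_iff f hdim 0 T x).1 hx
    have hxc : PicF.IsInvertibleCl (PicF.cl x) := ⟨x, rfl, hxi⟩
    obtain ⟨g₀, hg₀, -⟩ := huniv T ⟨PicF.cl x, hxc, eq_one_of_subsingleton (FppfPic.isInvertibleCl_pull _ hxc)⟩
      ((hasFibreDegreeZeroCl_iff f _).2 fun s => (deg0At_iff f _ _).2 (hxd s))
    have hψ : ψ.app T x hP hx = g₀ ≫ e.hom := hpt T x hx g₀ 1 Alb.isInvertibleCl_one (by
      rw [pullCl_one, _root_.mul_one]
      exact hg₀.symm)
    let b : T ⟶ J₀ := g₀ * (toUnit T ≫ n₀)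
    let L : (PicF.XT f T).Modules := CohB1.tensorMod x ((Scheme.Modules.pullback (pullback.fst f t)).obj N)
    have hL : PicF.IsInvertible L := InvX.isInvertible_tensorMod hxi (PicClLib.isInvertible_pullback _ hN)
    have hfst : PicF.XTmap f (toUnit T) ≫ p₁ f = pullback.fst f t := by
      simp [PicF.XTmap, p₁, T]
    have hLcl : PicF.cl L = PicF.pullCl (PicF.XTmap f b) (shCl f σ hσ ξ n) := by
      refine eq_of_invCl_mul (isInvertibleCl_pow (isInvertibleCl_tw (isInvertibleCl_δ f σ hσ) T) n) ?_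
      rw [pull_shCl]
      show PicF.cl x * tw f (PicF.cl N) T * tw f (δ σ) T ^ n = PicF.pullCl _ ξ.1
      rw [jac_pull_mul f hdim σ hσ ξ hξ huniv, hg₀, ← FppfPic.pullCl_XTmap_comp, ← pull_A f σ hσ ξ n₀,
        ← clN_mul_pow f σ hσ ξ n n₀, hn₀, PicClLib.pullCl_comp, hfst]
      show _ = PicF.cl x * tw f (PicF.cl N * δ σ ^ n) T
      rw [tw, tw, tw, pullCl_mul, Alb.pullCl_pow, _root_.mul_assoc]
    letI : (PicF.XT f T).Over (Spec (CommRingCat.of Ω)) := ⟨PicF.XTproj f T⟩
    haveI : IsProper (PicF.XT f T ↘ Spec (CommRingCat.of Ω)) := isProper_proj f T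
    haveI : IsIntegral (PicF.XT f T) := isIntegral_XT f t
    haveI := CurveCohLib.isNoetherian_of_proper (k := Ω) (X := PicF.XT f T)
    haveI : Nontrivial (Coh.HH (PicF.XT f T) L 0) := not_subsingleton_iff_nontrivial.1 hQ
    haveI : Module.Finite Ω (Coh.HH (PicF.XT f T) L 0) :=
      CurveCohLib.finite_HH (k := Ω) (CurveDeg.isCoh_of_isInvertible hL) 0
    have hpos : 0 < Module.finrank Ω (Coh.HH (PicF.XT f T) L 0) := Module.finrank_pos
    rw [FppfPic.HyperSec.finrank_HH_zero Ω L] at hpos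
    letI := FppfPic.HyperSec.secMod Ω (X := PicF.XT f T) L
    haveI : Module.Finite Ω Γ(L, ⊤) := FppfPic.HyperSec.finite_sections Ω L ‹_›
    obtain ⟨s, hs⟩ := Module.finrank_pos_iff_exists_ne_zero.1 hpos
    obtain ⟨D⟩ := nonempty_tower (f := f) hdim σ hσ
    obtain ⟨E, hE, -⟩ := exists_div_of_section f t hdim σ hσ ξ hξ huniv D b n hL hLcl s hs
    obtain ⟨y, hy⟩ := exists_tuple_over f hdim σ hσ ξ hξ huniv t D n E
    let q : T ⟶ Over.mk (WidePullback.base fun (_ : Fin n) => f) :=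
      Over.homMk (WidePullback.lift t (fun i => (y i).left) (fun i => Over.w (y i))) (WidePullback.lift_base _ _ _ _)
    have hq : q ≫ sumMap f j n = ψ.app T x hP hx ≫ Jac.transl J (n₀ ≫ e.hom) := by
      rw [comp_prod]
      have h1 : b ≫ e.hom = (List.ofFn fun i => (y i ≫ aj f hdim σ hσ ξ hξ huniv) ≫ e.hom).prod := by
        rw [← hE, hy, prod_comp_hom e.hom]
      rw [comp_transl, hψ, ← Category.assoc, ← MonObj.mul_comp]
      refine Eq.trans ?_ h1.symm
      congr 2
      funext i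
      rw [← Category.assoc, show q ≫ _ = y i from Over.OverMorphism.ext (WidePullback.lift_π _ _ _ _ _),
        Category.assoc]
      exact congrArg (y i ≫ ·) hej.symm
    exact ⟨q.left.base p, congr($(hq).left p)⟩
  · intro ha
    refine subset_closure ?_
    let P : Over (Spec (CommRingCat.of k)) := Over.mk (𝟙 (Spec (CommRingCat.of k)))
    obtain ⟨a₀, rfl⟩ : ∃ a₀, a = a₀ ≫ e.hom := ⟨a ≫ e.inv, by rw [Category.assoc, e.inv_hom_id, Category.comp_id]⟩
    rw [← MonObj.mul_comp, key] at ha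
    obtain ⟨x, hxcl, hxi⟩ := FppfPic.isInvertibleCl_pull (PicF.XTmap f a₀) ξ.2.1
    haveI : Subsingleton P.left := inferInstanceAs (Subsingleton (PrimeSpectrum k))
    have hok : (ModFun.PicDeg f 0).ok P x := (ok_iff f hdim 0 P x).2 ⟨hxi, fun s => by
      rw [hxcl]
      exact (deg0At_iff f _ _).1 ((hasFibreDegreeZeroCl_iff f _).1 (rig0Pull f σ hσ a₀ ⟨ξ, hξ⟩).2 s)⟩
    have hψ : ψ.app P x trivial hok = a₀ ≫ e.hom := hpt P x hok a₀ 1 Alb.isInvertibleCl_one (by
      rw [pullCl_one, _root_.mul_one]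
      exact hxcl)
    have hQ : ¬ Subsingleton (Coh.HH (PicF.XT f P)
        (CohB1.tensorMod x ((Scheme.Modules.pullback (p₁ f)).obj N)) 0) := ?_
    · have h := mem_jumpLocus f 0 ψ N (𝟙 (Spec (CommRingCat.of k))) x hok hQ (IsLocalRing.closedPoint k)
      rw [hψ] at h
      exact h
    · obtain ⟨M, hMcl, hM⟩ := isInvertibleCl_clN f σ hσ ξ n (a₀ * n₀)
      have hpos := (mem_Wpts_iff hdim σ hσ ξ hξ huniv n _ hM hMcl).1 ha
      rw [← finrank_p₁ M hM 0] at hpos
      letI : (PicF.XT f P).Over (Spec (CommRingCat.of k)) := ⟨PicF.XTproj f P⟩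
      obtain ⟨φ⟩ : Nonempty ((Scheme.Modules.pullback (p₁ f)).obj M ≅
          CohB1.tensorMod x ((Scheme.Modules.pullback (p₁ f)).obj N)) := cl_eq_iff.1 (by
        show PicF.pullCl (p₁ f) (PicF.cl M) = PicF.cl x * PicF.pullCl (p₁ f) (PicF.cl N)
        rw [hMcl, hxcl, ← pull_A f σ hσ ξ a₀, ← hn₀, ← pullCl_mul, clN, A_mul f hdim σ hσ ξ hξ huniv,
          _root_.mul_assoc]
        rfl)
      rw [(CurveCohLib.hhEquiv (k := k) φ 0).finrank_eq] at hpos
      intro hsub
      haveI : Subsingleton (Coh.HH (PicF.XT f (𝟙_ (Over (Spec (CommRingCat.of k)))))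
          (CohB1.tensorMod x ((Scheme.Modules.pullback (p₁ f)).obj N)) 0) := hsub
      exact absurd Module.finrank_zero_of_subsingleton hpos.ne'

end Groth.Agent.PicCurve.Pts

end
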